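import Groth.Agent.FittLib.StrictTransform
import Groth.Agent.LocFree.Props
import Groth.Prelude.Def_CInt

/-!
# Strict transforms: finite presentation, schematically dense opens
-/

set_option autoImplicit false
set_option backward.isDefEq.respectTransparency false

universe u

open CategoryTheory CategoryTheory.Limits AlgebraicGeometry TopologicalSpace Opposite Groth.Agent
  Groth.Agent.QC TensorProduct

namespace FittLib

variable {X Y : Scheme.{u}}

lemma finitePresentation_pullback (f : X ⟶ Y) {F : Y.Modules} (hF : Coh.IsQCoh F) (hfp : CohB1.IsFP F)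
    {U : Y.Opens} (hU : IsAffineOpen U) {V : X.Opens} (hV : IsAffineOpen V) (h : V ≤ f ⁻¹ᵁ U) :
    Module.FinitePresentation Γ(X, V) Γ((Scheme.Modules.pullback f).obj F, V) := by
  letI : Algebra Γ(Y, U) Γ(X, V) := (f.appLE U V h).hom.toAlgebra
  haveI : F.IsQuasicoherent := hF
  haveI := LocFree.finitePresentation_sections_of_isFP hF hfp hU
  let G := (modulesSpecToSheaf.obj (F.restrict hU.fromSpec)).presheaf.obj (op ⊤)
  let e : G ≅ ModuleCat.of Γ(Y, U) Γ(F, U) := (topEquiv hU F).toModuleIso
  let P := (Scheme.Modules.pullback f).obj F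
  let l : Γ(X, V) ⊗[Γ(Y, U)] Γ(F, U) ≃ₗ[Γ(X, V)] Γ(P, V) :=
    ((ModuleCat.extendScalars.{u, u, u} (f.appLE U V h).hom).mapIso e).symm.toLinearEquiv.trans
      ((tilde.toTildeΓNatIso.app ((ModuleCat.extendScalars.{u, u, u} (f.appLE U V h).hom).obj G) ≪≫
        moduleSpecΓFunctor.mapIso (pullbackAffineIso f hU hV h).symm).toLinearEquiv.trans
        (topEquiv hV P))
  exact Module.FinitePresentation.of_equiv l

/-- The kernel of a surjection from a finitely presented module onto a locally free one is finitely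
presented. -/
theorem isFP_kernel {P G : X.Modules} (π : P ⟶ G) [Epi π] (hP : Coh.IsQCoh P) (hG : Coh.IsQCoh G)
    (hfp : ∀ x : X, ∃ W : X.Opens, x ∈ W ∧ ∀ V : X.Opens, IsAffineOpen V → V ≤ W →
      Module.FinitePresentation Γ(X, V) Γ(P, V))
    {r : ℕ} (hfree : FlatMod.IsFinLocFreeOfRank r G) : CohB1.IsFP (kernel π) := by
  have hK := isQCoh_kernel hP hG π
  refine isFP_iff_exists_hasFinPres.mpr fun x => ?_
  obtain ⟨W, hxW, hW⟩ := hfp x
  obtain ⟨W', hxW', ⟨e⟩⟩ := hfree x
  obtain ⟨_, ⟨V, hV, rfl⟩, hxV, hVW⟩ := X.isBasis_affineOpens.exists_subset_of_mem_open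
    (show x ∈ W ⊓ W' from ⟨hxW, hxW'⟩) (W ⊓ W').2
  haveI := hW V hV (fun z hz => (hVW hz).1)
  obtain ⟨hfr, hfin⟩ := LocFree.free_sections_of_le e hV (fun z hz => (hVW hz).2)
  let L : Γ(P, V) →ₗ[Γ(X, V)] Γ(G, V) :=
    { toFun := π.app V
      map_add' := map_add _
      map_smul' := fun r y => π.app_smul r y }
  have hL : Function.Surjective L := app_surjective_of_epi hV hP hG π
  obtain ⟨σ, hσ⟩ := Module.projective_lifting_property L LinearMap.id hL
  let p : Γ(P, V) →ₗ[Γ(X, V)] LinearMap.ker L :=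
    (LinearMap.id - σ.comp L).codRestrict _ fun y => by
      simp only [LinearMap.mem_ker, LinearMap.sub_apply, LinearMap.id_coe, id_eq, map_sub,
        LinearMap.comp_apply]
      rw [← LinearMap.comp_apply L σ, hσ, LinearMap.id_apply, sub_self]
  have hp : p.comp (LinearMap.ker L).subtype = LinearMap.id := by
    ext y
    simp [p, LinearMap.mem_ker.mp y.2]
  have hpsurj : Function.Surjective p := fun y => ⟨y.1, LinearMap.congr_fun hp y⟩
  have hkerp : LinearMap.ker p = LinearMap.range σ := by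
    ext y
    constructor
    · intro hy
      have := congrArg Subtype.val (LinearMap.mem_ker.mp hy)
      simp only [p, LinearMap.codRestrict_apply, LinearMap.sub_apply, LinearMap.id_coe, id_eq,
        ZeroMemClass.coe_zero, sub_eq_zero] at this
      exact ⟨L y, this.symm⟩
    · rintro ⟨z, rfl⟩
      rw [LinearMap.mem_ker]
      apply Subtype.ext
      simp only [p, LinearMap.codRestrict_apply, LinearMap.sub_apply, LinearMap.id_coe, id_eq,
        ZeroMemClass.coe_zero, LinearMap.comp_apply, sub_eq_zero]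
      rw [← LinearMap.comp_apply L σ, hσ, LinearMap.id_apply]
  haveI : Module.FinitePresentation Γ(X, V) (LinearMap.ker L) :=
    Module.finitePresentation_of_surjective p hpsurj (by
      rw [hkerp, LinearMap.range_eq_map]
      exact (Module.finite_def.mp hfin).map σ)
  let i : Γ(kernel π, V) →ₗ[Γ(X, V)] Γ(P, V) :=
    { toFun := (kernel.ι π).app V
      map_add' := map_add _
      map_smul' := fun r y => (kernel.ι π).app_smul r y }
  have hi : Function.Injective i := app_injective_of_mono (kernel.ι π) V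
  have hir : LinearMap.range i = LinearMap.ker L := by
    ext y
    exact mem_range_kernel_app π V y
  haveI : Module.FinitePresentation Γ(X, V) Γ(kernel π, V) :=
    Module.FinitePresentation.of_equiv ((LinearEquiv.ofInjective i hi).trans (LinearEquiv.ofEq _ _ hir)).symm
  exact ⟨V, hxV, hasFinPres_of_finitePresentation hV (hM := hK)⟩

/-- An ideal sheaf vanishing on a schematically dense open vanishes. -/
theorem eq_bot_of_dense {U : X.Opens} (hU : CInt.IsSchematicallyDense U) {J : X.IdealSheafData}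
    (hJ : J.comap U.ι = ⊥) : J = ⊥ := by
  refine Scheme.IdealSheafData.ext (funext fun V => ?_)
  rw [Scheme.IdealSheafData.ideal_bot, Pi.bot_apply, eq_bot_iff]
  intro c hc
  rw [Ideal.mem_bot]
  refine hU V.1 ?_
  rw [map_zero]
  refine TopCat.Presheaf.IsSheaf.section_ext X.sheaf.2 fun z hz => ?_
  obtain ⟨_, ⟨W, hW, rfl⟩, hzW, hWU⟩ := X.isBasis_affineOpens.exists_subset_of_mem_open
    (show z ∈ V.1 ⊓ U from hz) (V.1 ⊓ U).2
  refine ⟨W, hWU, hzW, ?_⟩
  have h0 : J.ideal ⟨W, hW⟩ = ⊥ := by
    refine idealSpec_injective _ ?_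
    have hr : Set.range hW.fromSpec ⊆ Set.range U.ι := by
      rw [hW.range_fromSpec, Scheme.Opens.range_ι]
      exact fun w hw => (hWU hw).2
    rw [← comap_fromSpec J hW, ← IsOpenImmersion.lift_fac U.ι hW.fromSpec hr,
      Scheme.IdealSheafData.comap_comp, hJ, Scheme.IdealSheafData.comap_bot,
      ← Scheme.IdealSheafData.comap_bot hW.fromSpec, comap_fromSpec ⊥ hW,
      Scheme.IdealSheafData.ideal_bot]
    rfl
  have hWV : W ≤ V.1 := fun w hw => (hWU hw).1
  have h1 : (X.presheaf.map (homOfLE hWV).op).hom c = 0 := by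
    have h2 : (X.presheaf.map (homOfLE hWV).op).hom c ∈ J.ideal ⟨W, hW⟩ :=
      (J.map_ideal (U := ⟨W, hW⟩) (V := V) hWV).le (Ideal.mem_map_of_mem _ hc)
    rw [h0] at h2
    exact Ideal.mem_bot.mp h2
  rw [map_zero]
  exact ((X.presheaf.map (homOfLE _).op).hom.comp_apply _ _).symm.trans
    ((ConcreteCategory.congr_hom (X.presheaf.map_comp _ _).symm c).trans h1)

/-- Away from the exceptional divisor the kernel of a strict transform vanishes. -/
theorem isZero_kernel_restrict {S : Scheme.{u}} (b : X ⟶ S) (I : S.IdealSheafData) (F : S.Modules)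
    (G : X.Modules) (π : (Scheme.Modules.pullback b).obj F ⟶ G)
    (hG : BlowUp.IsStrictTransform b I F G π) (O : X.Opens)
    (hO : Disjoint ((I.comap b).support : Set X) (O : Set X)) :
    IsZero ((kernel π).restrict O.ι) := by
  have key : ∀ W : X.Opens, W ≤ O → ∀ s : Γ(kernel π, W), s = 0 := fun W hW s => by
    refine section_eq_of_locally fun z hz => ?_
    obtain ⟨_, ⟨V, hV, rfl⟩, hzV, hVW⟩ := X.isBasis_affineOpens.exists_subset_of_mem_open hz W.2
    refine ⟨V, hVW, hzV, ?_⟩
    rw [map_zero]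
    refine app_injective_of_mono (kernel.ι π) V ?_
    rw [map_zero]
    obtain ⟨n, hn⟩ := (hG.2 ⟨V, hV⟩ _).mp ((mem_range_kernel_app π V _).mp ⟨res _ hVW s, rfl⟩)
    have htop : (I.comap b).ideal ⟨V, hV⟩ = ⊤ := by
      by_contra hne
      obtain ⟨m, hm, hle⟩ := Ideal.exists_le_maximal _ hne
      let q : PrimeSpectrum Γ(X, V) := ⟨m, hm.isPrime⟩
      have hqV : hV.fromSpec q ∈ V := hV.range_fromSpec.subset ⟨q, rfl⟩
      refine Set.disjoint_left.mp hO ?_ (hW (hVW hqV))
      show hV.fromSpec q ∈ (I.comap b).support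
      rw [mem_support_iff _ ⟨V, hV⟩ hqV]
      rw [show hV.primeIdealOf ⟨hV.fromSpec q, hqV⟩ = q from
        hV.fromSpec.isOpenEmbedding.injective (hV.fromSpec_primeIdealOf _)]
      exact hle
    have h1 := hn 1 (by
      rw [Scheme.IdealSheafData.ideal_pow, Pi.pow_apply, htop, ← Ideal.one_eq_top, one_pow,
        Ideal.one_eq_top]
      trivial)
    rwa [one_smul] at h1
  rw [IsZero.iff_id_eq_zero]
  refine Scheme.Modules.hom_ext _ _ fun W => ?_
  ext s
  exact key (O.ι ''ᵁ W) (by
    rintro _ ⟨w, -, rfl⟩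
    exact w.2) s

end FittLib
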