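import Mathlib
import Groth.Prelude.Def_Fitting

/-!
# Fitting ideals: independence of the generating tuple
-/

universe u v w

namespace FittLib

open scoped Matrix

variable {R : Type u} [CommRing R] {M : Type v} [AddCommGroup M] [Module R M]
variable {ι : Type*} {κ : Type*} {m : ℕ}

/-- The minor of the vectors `z` on the coordinates `e`. -/
def minor (z : Fin m → ι → R) (e : Fin m → ι) : R :=
  (Matrix.of fun a b => z b (e a)).det

lemma minor_eq_zero_of_not_injective (z : Fin m → ι → R) (e : Fin m → ι)
    (he : ¬ Function.Injective e) : minor z e = 0 := by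
  simp only [Function.Injective, not_forall] at he
  obtain ⟨a, b, hab, hne⟩ := he
  refine Matrix.det_zero_of_row_eq hne ?_
  funext c
  simp [hab]

lemma minor_transpose (z : Fin m → ι → R) (e : Fin m → ι) :
    minor z e = (Matrix.of fun b a => z b (e a)).det := by
  rw [minor, ← Matrix.det_transpose]
  rfl

lemma minor_map {S : Type*} [CommRing S] (φ : R →+* S) (z : Fin m → ι → R) (e : Fin m → ι) :
    minor (fun j i => φ (z j i)) e = φ (minor z e) := by
  rw [minor, minor, RingHom.map_det]
  rfl

lemma multilinear_mem_of_span {V : Type*} [AddCommGroup V] [Module R V]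
    (F : MultilinearMap R (fun _ : Fin m => V) R) (G : Set V) (I : Ideal R)
    (h : ∀ z : Fin m → V, (∀ j, z j ∈ G) → F z ∈ I)
    (z : Fin m → V) (hz : ∀ j, z j ∈ Submodule.span R G) : F z ∈ I := by
  classical
  suffices ∀ s : Finset (Fin m), ∀ z : Fin m → V, (∀ j ∈ s, z j ∈ Submodule.span R G) →
      (∀ j ∉ s, z j ∈ G) → F z ∈ I from
    this Finset.univ z (fun j _ => hz j) (fun j hj => absurd (Finset.mem_univ j) hj)
  intro s
  induction s using Finset.induction_on with
  | empty => exact fun z _ hz => h z fun j => hz j (Finset.notMem_empty j)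
  | insert a s has ih =>
    intro z h1 h2
    suffices ∀ w ∈ Submodule.span R G, F (Function.update z a w) ∈ I by
      simpa using this (z a) (h1 a (Finset.mem_insert_self a s))
    intro w hw
    induction hw using Submodule.span_induction with
    | mem w hw =>
      refine ih _ (fun j hj => ?_) (fun j hj => ?_)
      · rw [Function.update_of_ne (by rintro rfl; exact has hj)]
        exact h1 j (Finset.mem_insert_of_mem hj)
      · rcases eq_or_ne j a with rfl | hne
        · simpa using hw
        · rw [Function.update_of_ne hne]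
          exact h2 j (by simp [hne, hj])
    | zero => simp [F.map_update_zero]
    | add p q _ _ hp hq => rw [F.map_update_add]; exact I.add_mem hp hq
    | smul r p _ hp => rw [F.map_update_smul]; exact I.mul_mem_left r hp

lemma minor_mem_of_span (G : Set (ι → R)) (I : Ideal R) (e : Fin m → ι)
    (h : ∀ z : Fin m → ι → R, (∀ j, z j ∈ G) → minor z e ∈ I)
    (z : Fin m → ι → R) (hz : ∀ j, z j ∈ Submodule.span R G) : minor z e ∈ I := by
  let F : MultilinearMap R (fun _ : Fin m => ι → R) R :=
    (Matrix.detRowAlternating (R := R) (n := Fin m)).toMultilinearMap.compLinearMap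
      fun _ => LinearMap.funLeft R R e
  have hF : ∀ z, F z = minor z e := fun z => (minor_transpose z e).symm
  rw [← hF]
  exact multilinear_mem_of_span F G I (fun z hz => hF z ▸ h z hz) z hz

section
variable [Fintype ι]

/-- Relations among a tuple. -/
def rel (R : Type u) [CommRing R] [Module R M] (x : ι → M) : Submodule R (ι → R) := LinearMap.ker (Fintype.linearCombination R x)

lemma mem_rel {x : ι → M} {z : ι → R} : z ∈ rel R x ↔ ∑ i, z i • x i = 0 := by
  simp [rel, Fintype.linearCombination_apply]

/-- Ideal of the `m`-minors of the relations of `x`. -/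
def minors (R : Type u) [CommRing R] [Module R M] (x : ι → M) (m : ℕ) : Ideal R :=
  Ideal.span {d | ∃ (z : Fin m → ι → R) (e : Fin m → ι), (∀ j, z j ∈ rel R x) ∧ d = minor z e}

lemma minor_mem_minors {x : ι → M} {z : Fin m → ι → R} (hz : ∀ j, z j ∈ rel R x) (e : Fin m → ι) :
    minor z e ∈ minors R x m :=
  Ideal.subset_span ⟨z, e, hz, rfl⟩

lemma minors_le {x : ι → M} {I : Ideal R}
    (h : ∀ (z : Fin m → ι → R) (e : Fin m → ι), (∀ j, z j ∈ rel R x) → minor z e ∈ I) :
    minors R x m ≤ I :=
  Ideal.span_le.mpr (by rintro _ ⟨z, e, hz, rfl⟩; exact h z e hz)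

lemma minors_le_of_span {x : ι → M} {I : Ideal R} (G : Set (ι → R))
    (hG : rel R x ≤ Submodule.span R G)
    (h : ∀ (z : Fin m → ι → R) (e : Fin m → ι), (∀ j, z j ∈ G) → minor z e ∈ I) :
    minors R x m ≤ I :=
  minors_le fun z e hz => minor_mem_of_span G I e (fun z hz => h z e hz) z fun j => hG (hz j)

lemma minors_zero (x : ι → M) : minors R x 0 = ⊤ :=
  (Ideal.eq_top_iff_one _).mpr (Ideal.subset_span ⟨Fin.elim0, Fin.elim0, fun j => j.elim0, by
    simp [minor]⟩)

lemma minors_succ_le (x : ι → M) (m : ℕ) : minors R x (m + 1) ≤ minors R x m := by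
  refine minors_le fun z e hz => ?_
  rw [minor, Matrix.det_succ_column _ 0]
  refine Ideal.sum_mem _ fun i _ => Ideal.mul_mem_left _ _ ?_
  exact minor_mem_minors (z := fun b => z (Fin.succAbove 0 b)) (fun j => hz _) (e ∘ i.succAbove)

lemma minors_antitone (x : ι → M) : Antitone (minors R x) :=
  antitone_nat_of_succ_le (minors_succ_le x)

lemma minors_eq_top_of_eq_zero (x : ι → M) {m : ℕ} (h : m = 0) : minors R x m = ⊤ := by
  subst h; exact minors_zero x

lemma minors_comp_equiv [Fintype κ] (φ : κ ≃ ι) (x : ι → M) (m : ℕ) :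
    minors R (x ∘ φ) m = minors R x m := by
  apply le_antisymm
  · refine minors_le fun z e hz => ?_
    have h1 : ∀ j, (fun i => z j (φ.symm i)) ∈ rel R x := fun j => by
      rw [mem_rel, ← φ.sum_comp]
      simpa using mem_rel.mp (hz j)
    have := minor_mem_minors h1 (φ ∘ e)
    simpa [minor] using this
  · refine minors_le fun z e hz => ?_
    have h1 : ∀ j, (fun i => z j (φ i)) ∈ rel R (x ∘ φ) := fun j => by
      rw [mem_rel]
      exact (φ.sum_comp fun i => z j i • x i).trans (mem_rel.mp (hz j))
    have := minor_mem_minors h1 (φ.symm ∘ e)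
    simpa [minor] using this

lemma minors_option (x : ι → M) (c : ι → R) {y : M} (hy : y = ∑ i, c i • x i) (m : ℕ) :
    minors R (fun o : Option ι => o.elim y x) (m + 1) = minors R x m := by
  classical
  set x' : Option ι → M := fun o => o.elim y x
  set ext0 : (ι → R) → (Option ι → R) := fun w o => o.elim 0 w with hext
  set v : Option ι → R := fun o => o.elim (-1) c with hv
  have hvrel : v ∈ rel R x' := by
    rw [mem_rel, Fintype.sum_option]
    simp [x', v, hy]
  have hextrel : ∀ w ∈ rel R x, ext0 w ∈ rel R x' := fun w hw => by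
    rw [mem_rel, Fintype.sum_option]
    simpa [x', ext0] using mem_rel.mp hw
  apply le_antisymm
  · refine minors_le_of_span (insert v (ext0 '' (rel R x : Set (ι → R)))) ?_ ?_
    · intro t ht
      let w : ι → R := fun i => t (some i) + t none * c i
      have hw : w ∈ rel R x := by
        rw [mem_rel]
        have := mem_rel.mp ht
        rw [Fintype.sum_option] at this
        simp only [x', Option.elim_none, Option.elim_some, hy, Finset.smul_sum, smul_smul] at this
        simp only [w, add_smul, Finset.sum_add_distrib]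
        rw [add_comm]
        exact this
      have e : t = ext0 w + (-t none) • v := by
        funext o
        cases o <;> simp [ext0, v, w]
      rw [e]
      exact add_mem (Submodule.subset_span (Set.mem_insert_of_mem _ ⟨w, hw, rfl⟩))
        (Submodule.smul_mem _ _ (Submodule.subset_span (Set.mem_insert _ _)))
    · intro z e hz
      by_cases h2 : ∃ a b, a ≠ b ∧ z a = v ∧ z b = v
      · obtain ⟨a, b, hne, ha, hb⟩ := h2
        rw [minor, Matrix.det_zero_of_column_eq hne (fun k => by simp [ha, hb])]
        exact zero_mem _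
      push Not at h2
      obtain ⟨j0, hj0⟩ : ∃ j0 : Fin (m + 1), ∀ j, j ≠ j0 →
          ∃ w ∈ rel R x, z j = ext0 w := by
        by_cases h1 : ∃ a, z a = v
        · obtain ⟨a, ha⟩ := h1
          refine ⟨a, fun j hj => ?_⟩
          obtain hj' | ⟨w, hw, hwz⟩ := hz j
          · exact absurd hj' (h2 a j (Ne.symm hj) ha)
          · exact ⟨w, hw, hwz.symm⟩
        · refine ⟨0, fun j _ => ?_⟩
          obtain hj' | ⟨w, hw, hwz⟩ := hz j
          · exact absurd ⟨j, hj'⟩ h1
          · exact ⟨w, hw, hwz.symm⟩
      choose w hw hwz using fun b : Fin m => hj0 (j0.succAbove b) (Fin.succAbove_ne _ _)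
      rw [minor, Matrix.det_succ_column _ j0]
      refine Ideal.sum_mem _ fun i _ => Ideal.mul_mem_left _ _ ?_
      have hsub : (Matrix.of fun a b => z b (e a)).submatrix i.succAbove j0.succAbove
          = Matrix.of fun a b => ext0 (w b) (e (i.succAbove a)) := by
        ext a b
        simp [hwz b]
      rw [hsub]
      by_cases hn : ∃ a, e (i.succAbove a) = none
      · obtain ⟨a, ha⟩ := hn
        rw [Matrix.det_eq_zero_of_row_eq_zero a (fun b => by simp [ha, ext0])]
        exact zero_mem _
      push Not at hn
      choose e' he' using fun a => Option.ne_none_iff_exists'.mp (hn a)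
      simpa [minor, he', ext0] using minor_mem_minors hw e'
  · refine minors_le fun z e hz => ?_
    have hrel : ∀ j, (Fin.cons v (fun b => ext0 (z b)) : Fin (m + 1) → Option ι → R) j ∈ rel R x' :=
      Fin.cases (by simpa using hvrel) fun j => by simpa using hextrel _ (hz j)
    have := minor_mem_minors hrel (Fin.cons none (some ∘ e))
    rw [minor, Matrix.det_succ_row_zero, Fin.sum_univ_succ] at this
    rw [← neg_mem_iff]
    have hsub : (Matrix.of fun a b : Fin (m + 1) =>
        (Fin.cons v (fun b => ext0 (z b)) : Fin (m + 1) → Option ι → R) b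
          ((Fin.cons none (some ∘ e) : Fin (m + 1) → Option ι) a)).submatrix Fin.succ Fin.succ
        = Matrix.of fun a b => z b (e a) := by
      ext a b
      simp [ext0]
    simpa [minor, hsub, v, ext0] using this

end

lemma minors_sum_elim [Fintype ι] (x : ι → M) (hx : Submodule.span R (Set.range x) = ⊤)
    {κ : Type*} [Fintype κ] (y : κ → M) (m : ℕ) :
    minors R (Sum.elim x y) (m + Fintype.card κ) = minors R x m := by
  revert y
  refine Fintype.induction_empty_option
    (P := fun κ _ => ∀ y : κ → M, minors R (Sum.elim x y) (m + Fintype.card κ) = minors R x m)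
    ?_ ?_ ?_ κ
  · intro α β _ φ h y
    letI : Fintype α := Fintype.ofEquiv β φ.symm
    rw [← Fintype.card_congr φ, ← h (y ∘ φ),
      ← minors_comp_equiv (Equiv.sumCongr (Equiv.refl ι) φ) (Sum.elim x y)]
    congr 1
    funext i
    cases i <;> rfl
  · intro y
    rw [Fintype.card_pempty, add_zero, ← minors_comp_equiv (Equiv.sumEmpty ι PEmpty).symm]
    rfl
  · intro α _ h y
    obtain ⟨c, hc⟩ := (Submodule.mem_span_range_iff_exists_fun R).mp
      (show y none ∈ Submodule.span R (Set.range x) by rw [hx]; trivial)
    let ψ : Option (ι ⊕ α) ≃ ι ⊕ Option α :=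
      { toFun := fun o => o.elim (Sum.inr none) (Sum.map id some)
        invFun := fun s => s.elim (some ∘ Sum.inl) (fun a => a.map Sum.inr)
        left_inv := by rintro (_ | ⟨_ | _⟩) <;> rfl
        right_inv := by rintro (_ | _ | _) <;> rfl }
    rw [← h (y ∘ some), ← minors_comp_equiv ψ, Fintype.card_option, ← add_assoc,
      ← minors_option (Sum.elim x (y ∘ some)) (Sum.elim c 0) (y := y none) (by simp [← hc])]
    congr 1
    funext o
    rcases o with _ | _ | _ <;> rfl

lemma minors_sum_elim_sub [Fintype ι] [Fintype κ] (x : ι → M)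
    (hx : Submodule.span R (Set.range x) = ⊤) (y : κ → M) (k : ℕ) :
    minors R (Sum.elim x y) (Fintype.card ι + Fintype.card κ - k)
      = minors R x (Fintype.card ι - k) := by
  rcases le_or_gt k (Fintype.card ι) with h | h
  · rw [← minors_sum_elim x hx y]
    congr 1
    omega
  · rw [minors_eq_top_of_eq_zero x (by omega : Fintype.card ι - k = 0), eq_top_iff,
      ← minors_zero x, ← minors_sum_elim x hx y]
    exact minors_antitone _ (by omega)

/-- Independence of the generating family. -/
lemma minors_indep [Fintype ι] [Fintype κ] {x : ι → M} (hx : Submodule.span R (Set.range x) = ⊤)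
    {y : κ → M} (hy : Submodule.span R (Set.range y) = ⊤) (k : ℕ) :
    minors R x (Fintype.card ι - k) = minors R y (Fintype.card κ - k) := by
  rw [← minors_sum_elim_sub x hx y, ← minors_sum_elim_sub y hy x,
    ← minors_comp_equiv (Equiv.sumComm ι κ) (Sum.elim y x), add_comm (Fintype.card κ)]
  congr 1
  funext i
  cases i <;> rfl

lemma det_mem_minors [Fintype ι] (x : ι → M) (z : Fin m → ι → R) (hz : ∀ j, z j ∈ rel R x)
    {N : ℕ} (hN : m ≤ N) : ∀ (a : Matrix (Fin N) (Fin N) R) (f : Fin N → ι),
    (∀ (i : Fin N) (h : (i : ℕ) < m) (j : Fin N), a i j = z ⟨i, h⟩ (f j)) →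
    a.det ∈ minors R x m := by
  induction N, hN using Nat.le_induction with
  | base =>
    intro a f ha
    have : a = Matrix.of fun i j => z i (f j) := by ext i j; exact ha i i.2 j
    rw [this, ← minor_transpose]
    exact minor_mem_minors hz f
  | succ N hN ih =>
    intro a f ha
    rw [Matrix.det_succ_row a (Fin.last N)]
    refine Ideal.sum_mem _ fun j _ => Ideal.mul_mem_left _ _ ?_
    refine ih _ (f ∘ j.succAbove) fun i h j' => ?_
    simp [ha i.castSucc h]

lemma ideal_eq_minors_fin {n : ℕ} (x : Fin n → M) (hx : Submodule.span R (Set.range x) = ⊤)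
    (k : ℕ) : Fitt.ideal R M k = minors R x (n - k) := by
  classical
  apply le_antisymm
  · refine Ideal.span_le.mpr ?_
    rintro _ ⟨n', x', a, hx', ha, rfl⟩
    have := minors_indep hx hx' k
    simp only [Fintype.card_fin] at this
    rw [this]
    exact det_mem_minors x' (fun i : Fin (n' - k) => a ⟨i, lt_of_lt_of_le i.2 (Nat.sub_le _ _)⟩)
      (fun i => mem_rel.mpr (ha _ i.2)) (Nat.sub_le _ _) a id (fun i h j => rfl)
  · refine minors_le fun z e hz => ?_
    by_cases he : Function.Injective e
    swap
    · rw [minor_eq_zero_of_not_injective z e he]; exact zero_mem _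
    have hcard : Fintype.card ↥((Set.range e)ᶜ) = n - (n - k) := by
      rw [Fintype.card_compl_set, Fintype.card_fin, Set.card_range_of_injective he,
        Fintype.card_fin]
    let τ : Fin (n - k) ⊕ Fin (n - (n - k)) ≃ Fin n :=
      (Equiv.sumCongr (Equiv.ofInjective e he) (Fintype.equivFinOfCardEq hcard).symm).trans
        (Equiv.Set.sumCompl (Set.range e))
    let σ : Fin (n - k) ⊕ Fin (n - (n - k)) ≃ Fin n :=
      finSumFinEquiv.trans (finCongr (by omega))
    have hτ : ∀ a, τ (Sum.inl a) = e a := fun a => by simp [τ]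
    let a : Matrix (Fin n) (Fin n) R := Matrix.of fun i j =>
      Sum.elim (fun b => z b j) (fun c => if τ (Sum.inr c) = j then 1 else 0) (σ.symm i)
    have hdet : minor z e = (a.submatrix σ τ).det := by
      have : a.submatrix σ τ = Matrix.fromBlocks (Matrix.of fun b c => z b (e c))
          (Matrix.of fun b c => z b (τ (Sum.inr c))) 0 1 := by
        ext (i | i) (j | j)
        · simp [a, hτ]
        · simp [a]
        · simp only [a, Matrix.submatrix_apply, Matrix.of_apply, Equiv.symm_apply_apply,
            Sum.elim_inr, Matrix.fromBlocks_apply₂₁, Matrix.zero_apply, EmbeddingLike.apply_eq_iff_eq,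
            reduceCtorEq, if_false]
        · simp [a, Matrix.one_apply]
      rw [this, Matrix.det_fromBlocks_zero₂₁, Matrix.det_one, mul_one, minor_transpose]
    have hperm : a.submatrix σ τ = (a.submatrix id (σ.symm.trans τ)).submatrix σ σ := by
      ext i j; simp
    rw [hdet, hperm, Matrix.det_submatrix_equiv_self, Matrix.det_permute']
    refine Ideal.mul_mem_left _ _ (Ideal.subset_span ⟨n, x, a, hx, fun i hi => ?_, rfl⟩)
    have hσ : σ.symm i = Sum.inl ⟨i, hi⟩ := by
      rw [Equiv.symm_apply_eq]; ext; simp [σ]
    simpa [a, hσ] using mem_rel.mp (hz ⟨i, hi⟩)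

lemma ideal_eq_minors [Fintype ι] (x : ι → M) (hx : Submodule.span R (Set.range x) = ⊤) (k : ℕ) :
    Fitt.ideal R M k = minors R x (Fintype.card ι - k) := by
  have hx' : Submodule.span R (Set.range (x ∘ (Fintype.equivFin ι).symm)) = ⊤ := by
    rwa [(Fintype.equivFin ι).symm.surjective.range_comp]
  rw [ideal_eq_minors_fin _ hx' k, minors_comp_equiv]

lemma ideal_eq_top_of_generators [Fintype ι] (x : ι → M)
    (hx : Submodule.span R (Set.range x) = ⊤) {k : ℕ} (hk : Fintype.card ι ≤ k) :
    Fitt.ideal R M k = ⊤ := by
  rw [ideal_eq_minors x hx]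
  exact minors_eq_top_of_eq_zero x (by omega)

variable (R M) in
lemma exists_generators [Module.Finite R M] :
    ∃ (n : ℕ) (x : Fin n → M), Submodule.span R (Set.range x) = ⊤ :=
  Module.Finite.exists_fin

lemma ideal_le_of_surjective [Module.Finite R M] {M' : Type*} [AddCommGroup M'] [Module R M']
    (f : M →ₗ[R] M') (hf : Function.Surjective f) (k : ℕ) :
    Fitt.ideal R M k ≤ Fitt.ideal R M' k := by
  obtain ⟨n, x, hx⟩ := exists_generators R M
  have hx' : Submodule.span R (Set.range (f ∘ x)) = ⊤ := by
    rw [Set.range_comp, Submodule.span_image, hx, Submodule.map_top, LinearMap.range_eq_top.mpr hf]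
  rw [ideal_eq_minors x hx, ideal_eq_minors (f ∘ x) hx']
  refine minors_le fun z e hz => minor_mem_minors (fun j => ?_) e
  rw [mem_rel]
  simpa [map_sum] using congrArg f (mem_rel.mp (hz j))

lemma ideal_congr [Module.Finite R M] {M' : Type*} [AddCommGroup M'] [Module R M']
    (f : M ≃ₗ[R] M') (k : ℕ) : Fitt.ideal R M k = Fitt.ideal R M' k := by
  haveI : Module.Finite R M' := Module.Finite.equiv f
  exact le_antisymm (ideal_le_of_surjective f.toLinearMap f.surjective k)
    (ideal_le_of_surjective f.symm.toLinearMap f.symm.surjective k)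

end FittLib
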