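import Mathlib
import Groth.Agent.FittLib.Basic

/-!
# Fitting ideals: base change, Cramer, generation by `k` elements
-/

universe u v w

namespace FittLib

open scoped TensorProduct

variable {R : Type u} [CommRing R] {M : Type v} [AddCommGroup M] [Module R M]
variable {ι : Type*} [Fintype ι] {m : ℕ}
variable (S : Type w) [CommRing S] [Algebra R S]

lemma span_tmul_eq_top {x : ι → M} (hx : Submodule.span R (Set.range x) = ⊤) :
    Submodule.span S (Set.range fun i => (1 : S) ⊗ₜ[R] x i) = ⊤ := by
  rw [eq_top_iff]
  rintro t -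
  induction t using TensorProduct.induction_on with
  | zero => exact zero_mem _
  | add a b ha hb => exact add_mem ha hb
  | tmul s a =>
    obtain ⟨c, hc⟩ := (Submodule.mem_span_range_iff_exists_fun R).mp
      (show a ∈ Submodule.span R (Set.range x) by rw [hx]; trivial)
    rw [← hc, TensorProduct.tmul_sum]
    refine Submodule.sum_mem _ fun i _ => ?_
    rw [show s ⊗ₜ[R] (c i • x i) = (c i • s) • ((1 : S) ⊗ₜ[R] x i) by
      rw [TensorProduct.smul_tmul', smul_eq_mul, mul_one, TensorProduct.smul_tmul]]
    exact Submodule.smul_mem _ _ (Submodule.subset_span ⟨i, rfl⟩)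

lemma rel_tmul_le {x : ι → M} (hx : Submodule.span R (Set.range x) = ⊤) :
    rel S (fun i => (1 : S) ⊗ₜ[R] x i) ≤
      Submodule.span S ((fun w i => algebraMap R S (w i)) '' (rel R x : Set (ι → R))) := by
  classical
  intro w hw
  have hw' := mem_rel.mp hw
  let φ : (ι → R) →ₗ[R] M := Fintype.linearCombination R x
  have hsurj : Function.Surjective φ := by
    rw [← LinearMap.range_eq_top, Fintype.range_linearCombination, hx]
  have hex := lTensor_exact S (LinearMap.exact_subtype_ker_map φ) hsurj
  let t : S ⊗[R] (ι → R) := ∑ i, w i ⊗ₜ[R] Pi.single i (1 : R)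
  have ht : φ.lTensor S t = 0 := by
    simp only [t, map_sum, LinearMap.lTensor_tmul, φ, Fintype.linearCombination_apply_single,
      one_smul]
    simpa [TensorProduct.smul_tmul', smul_eq_mul] using hw'
  obtain ⟨s, hs⟩ := (hex t).mp ht
  let Ψ : S ⊗[R] (ι → R) →ₗ[R] (ι → S) := TensorProduct.lift
    (LinearMap.mk₂ R (fun (r : S) (v : ι → R) i => r * algebraMap R S (v i))
      (fun r r' v => by funext i; simp [add_mul])
      (fun c r v => by funext i; simp [Algebra.smul_def, mul_assoc])
      (fun r v v' => by funext i; simp [mul_add])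
      (fun c r v => by funext i; simp [Algebra.smul_def]; ring))
  have hΨt : Ψ t = w := by
    funext i
    simp only [t, map_sum, Ψ, TensorProduct.lift.tmul, LinearMap.mk₂_apply, Finset.sum_apply]
    rw [Finset.sum_eq_single i (fun j _ hj => by simp [hj.symm]) (by simp)]
    simp
  rw [← hΨt, ← hs]
  clear hs
  induction s using TensorProduct.induction_on with
  | zero => simp
  | add a b ha hb => rw [map_add, map_add]; exact add_mem ha hb
  | tmul r v =>
    have : Ψ ((LinearMap.ker φ).subtype.lTensor S (r ⊗ₜ[R] v))
        = r • (fun i => algebraMap R S ((v : ι → R) i)) := by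
      funext i; simp [Ψ]
    rw [this]
    exact Submodule.smul_mem _ _ (Submodule.subset_span ⟨v, v.2, rfl⟩)

lemma minors_tmul {x : ι → M} (hx : Submodule.span R (Set.range x) = ⊤) (m : ℕ) :
    minors S (fun i => (1 : S) ⊗ₜ[R] x i) m = (minors R x m).map (algebraMap R S) := by
  apply le_antisymm
  · refine minors_le_of_span _ (rel_tmul_le S hx) fun z e hz => ?_
    choose z' hz' hzz using hz
    obtain rfl : (fun j i => algebraMap R S (z' j i)) = z := funext hzz
    rw [minor_map]
    exact Ideal.mem_map_of_mem _ (minor_mem_minors hz' e)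
  · rw [minors, Ideal.map_span, Ideal.span_le]
    rintro _ ⟨_, ⟨z, e, hz, rfl⟩, rfl⟩
    rw [SetLike.mem_coe, ← minor_map]
    refine minor_mem_minors (fun j => ?_) e
    rw [mem_rel]
    have := congrArg (fun a : M => (1 : S) ⊗ₜ[R] a) (mem_rel.mp (hz j))
    simpa [TensorProduct.tmul_sum, TensorProduct.smul_tmul', TensorProduct.tmul_smul,
      Algebra.smul_def] using this

lemma ideal_baseChange [Module.Finite R M] (k : ℕ) :
    Fitt.ideal S (S ⊗[R] M) k = (Fitt.ideal R M k).map (algebraMap R S) := by
  obtain ⟨n, x, hx⟩ := exists_generators R M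
  rw [ideal_eq_minors x hx, ideal_eq_minors _ (span_tmul_eq_top S hx), minors_tmul S hx]

lemma ideal_localizedModule [Module.Finite R M] (T : Submonoid R) (k : ℕ) :
    Fitt.ideal (Localization T) (LocalizedModule T M) k
      = (Fitt.ideal R M k).map (algebraMap R (Localization T)) := by
  haveI : Module.Finite (Localization T) (LocalizedModule T M) :=
    Module.Finite.equiv (LocalizedModule.equivTensorProduct T M).symm
  rw [ideal_congr (LocalizedModule.equivTensorProduct T M), ideal_baseChange]

/-! ### Cramer -/

lemma sum_minor_update [DecidableEq ι] {x : ι → M} {z : Fin m → ι → R} (hz : ∀ j, z j ∈ rel R x)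
    (e : Fin m → ι) (a : Fin m) : ∑ i, minor z (Function.update e a i) • x i = 0 := by
  classical
  set A : Matrix (Fin m) (Fin m) R := Matrix.of fun p b => z b (e p) with hA
  have key : ∀ i, minor z (Function.update e a i) = ∑ b, A.transpose.adjugate a b * z b i := by
    intro i
    have h1 : (Matrix.of fun p b => z b (Function.update e a i p)) = A.updateRow a (fun b => z b i) := by
      ext p b
      rcases eq_or_ne p a with rfl | h
      · simp [A]
      · simp [A, h, Matrix.updateRow_ne]
    rw [minor, h1, ← Matrix.cramer_transpose_apply, Matrix.cramer_eq_adjugate_mulVec]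
    rfl
  simp only [key, Finset.sum_smul]
  rw [Finset.sum_comm]
  refine Finset.sum_eq_zero fun b _ => ?_
  simp [mul_smul, ← Finset.smul_sum, mem_rel.mp (hz b)]

/-- Cramer: a multiple of a row generator lies in the span of the other generators. -/
lemma exists_minor_smul_eq {x : ι → M} {z : Fin m → ι → R} (hz : ∀ j, z j ∈ rel R x)
    (e : Fin m → ι) (a : Fin m) :
    ∃ c : ι → R, (∀ i, c i ∈ minors R x m) ∧ (∀ i, i ∈ Set.range e → c i = 0) ∧
      minor z e • x (e a) = ∑ i, c i • x i := by
  classical
  refine ⟨fun i => if i ∈ Set.range e then 0 else - minor z (Function.update e a i), ?_, ?_, ?_⟩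
  · intro i
    simp only
    split_ifs with h
    · exact zero_mem _
    · exact neg_mem (minor_mem_minors hz _)
  · intro i hi; simp [hi]
  · calc minor z e • x (e a)
        = ∑ i, (if i = e a then minor z e • x i else 0) := by simp
      _ = ∑ i, (minor z (Function.update e a i) • x i +
            (if i ∈ Set.range e then 0 else - minor z (Function.update e a i)) • x i) := by
          refine Finset.sum_congr rfl fun i _ => ?_
          rcases eq_or_ne i (e a) with rfl | hne
          · simp [Function.update_eq_self]
          · by_cases hi : i ∈ Set.range e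
            · obtain ⟨b, rfl⟩ := hi
              rw [minor_eq_zero_of_not_injective z (Function.update e a (e b))]
              · simp [hne]
              · intro hinj
                have hab : b ≠ a := by rintro rfl; exact hne rfl
                exact hab (hinj (by simp [hab]))
            · simp [hne, hi]
      _ = _ := by rw [Finset.sum_add_distrib, sum_minor_update hz e a, zero_add]

/-- `N` is spanned by `k` elements once it is spanned by a set of at most `k`. -/
lemma exists_fin_span {N : Type*} [AddCommGroup N] [Module R N] {k : ℕ} (T : Set ι)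
    (hT : Nat.card T ≤ k) (y : ι → N) (h : Submodule.span R (y '' T) = ⊤) :
    ∃ g : Fin k → N, Submodule.span R (Set.range g) = ⊤ := by
  classical
  let f : T → Fin k := fun t => Fin.castLE (by rwa [Nat.card_eq_fintype_card] at hT)
    ((Fintype.equivFin T) t)
  have hf : Function.Injective f := (Fin.castLE_injective _).comp (Fintype.equivFin T).injective
  refine ⟨Function.extend f (fun t => y t) 0, ?_⟩
  rw [eq_top_iff, ← h, Submodule.span_le]
  rintro _ ⟨i, hi, rfl⟩
  exact Submodule.subset_span ⟨f ⟨i, hi⟩, hf.extend_apply _ _ _⟩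

lemma span_compl_of_isUnit_minor {x : ι → M} (hx : Submodule.span R (Set.range x) = ⊤)
    {z : Fin m → ι → R} (hz : ∀ j, z j ∈ rel R x) (e : Fin m → ι) (hu : IsUnit (minor z e)) :
    Submodule.span R (x '' (Set.range e)ᶜ) = ⊤ := by
  rw [eq_top_iff, ← hx, Submodule.span_le]
  rintro _ ⟨i, rfl⟩
  by_cases hi : i ∈ Set.range e
  · obtain ⟨a, rfl⟩ := hi
    obtain ⟨c, -, hc, heq⟩ := exists_minor_smul_eq hz e a
    obtain ⟨v, hv⟩ := hu
    have : x (e a) = (↑v⁻¹ : R) • ∑ i, c i • x i := by
      rw [← heq, ← hv, smul_smul, Units.inv_mul, one_smul]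
    rw [SetLike.mem_coe, this]
    refine Submodule.smul_mem _ _ (Submodule.sum_mem _ fun i _ => ?_)
    by_cases hi : i ∈ Set.range e
    · simp [hc i hi]
    · exact Submodule.smul_mem _ _ (Submodule.subset_span ⟨i, hi, rfl⟩)
  · exact Submodule.subset_span ⟨i, hi, rfl⟩

lemma card_compl_range_le [DecidableEq ι] {e : Fin m → ι} (he : Function.Injective e) {k : ℕ}
    (hm : m = Fintype.card ι - k) : Nat.card ↥(Set.range e)ᶜ ≤ k := by
  classical
  rw [Nat.card_eq_fintype_card, Fintype.card_compl_set, Set.card_range_of_injective he,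
    Fintype.card_fin]
  omega

/-- If the `k`-th Fitting ideal is not contained in a prime, some `f` outside it inverts a minor
so that after any base change inverting `f` the module is generated by `k` elements. -/
lemma exists_generators_of_not_le [Module.Finite R M] {k : ℕ} {p : Ideal R}
    (h : ¬ Fitt.ideal R M k ≤ p) :
    ∃ f ∉ p, ∀ (A : Type w) [CommRing A] [Algebra R A], IsUnit (algebraMap R A f) →
      ∃ g : Fin k → A ⊗[R] M, Submodule.span A (Set.range g) = ⊤ := by
  classical
  obtain ⟨n, x, hx⟩ := exists_generators R M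
  rw [ideal_eq_minors x hx, minors, Ideal.span_le, Set.not_subset] at h
  obtain ⟨_, ⟨z, e, hz, rfl⟩, hd⟩ := h
  refine ⟨minor z e, hd, fun A _ _ hA => ?_⟩
  have he : Function.Injective e := by
    by_contra he
    exact hd (by rw [minor_eq_zero_of_not_injective z e he]; exact p.zero_mem)
  have hz' : ∀ j, (fun i => algebraMap R A (z j i)) ∈ rel A (fun i => (1 : A) ⊗ₜ[R] x i) := fun j => by
    rw [mem_rel]
    have := congrArg (fun a : M => (1 : A) ⊗ₜ[R] a) (mem_rel.mp (hz j))
    simpa [TensorProduct.tmul_sum, TensorProduct.smul_tmul', TensorProduct.tmul_smul,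
      Algebra.smul_def] using this
  exact exists_fin_span _ (card_compl_range_le he rfl) _
    (span_compl_of_isUnit_minor (span_tmul_eq_top A hx) hz' e (by rw [minor_map]; exact hA))

lemma not_le_of_map_eq_top {A : Type*} [CommRing A] {p : Ideal R}
    {I : Ideal R} (φ : R →+* A) (hI : I.map φ = ⊤) (K : Type*) [CommRing K] [Nontrivial K]
    (π : R →+* K) (hπ : ∀ a ∈ p, π a = 0) (ψ : A →+* K) (hψ : ψ.comp φ = π) : ¬ I ≤ p := by
  intro hle
  have h1 : I.map π = ⊤ := by rw [← hψ, ← Ideal.map_map, hI, Ideal.map_top]
  have h2 : I.map π ≤ ⊥ := Ideal.map_le_iff_le_comap.mpr fun a ha => by simp [hπ a (hle ha)]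
  exact top_ne_bot (α := Ideal K) (le_bot_iff.mp (h1 ▸ h2))

lemma not_le_of_map_localization_eq_top {p : Ideal R} [p.IsPrime] {T : Submonoid R}
    (hT : T ≤ p.primeCompl) {I : Ideal R} (hI : I.map (algebraMap R (Localization T)) = ⊤) :
    ¬ I ≤ p := by
  refine not_le_of_map_eq_top _ hI p.ResidueField
    (algebraMap R p.ResidueField) (fun a ha => Ideal.algebraMap_residueField_eq_zero.mpr ha)
    (IsLocalization.lift (M := T) (g := algebraMap R p.ResidueField) fun t => ?_)
    (IsLocalization.lift_comp _)
  exact isUnit_iff_ne_zero.mpr fun h => hT t.2 (Ideal.algebraMap_residueField_eq_zero.mp h)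

end FittLib
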