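import Mathlib
import Groth.Prelude.Def_Fitting
import Groth.Prelude.Def_CohB1
import Groth.Agent.FittLib.BaseChange
import Groth.Agent.LocFree.Props

/-!
# Fitting ideal sheaves of quasi-coherent modules of finite type
-/

set_option autoImplicit false
set_option backward.isDefEq.respectTransparency false

universe u

open CategoryTheory AlgebraicGeometry TopologicalSpace Opposite Groth.Agent.QC TensorProduct

namespace FittLib

variable {X : Scheme.{u}} {M : X.Modules}

lemma exists_sectionsEquiv (hM : Coh.IsQCoh M) {U : X.Opens} (hU : IsAffineOpen U) (r : Γ(X, U)) :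
    letI : Algebra Γ(X, U) Γ(X, X.basicOpen r) :=
      (resO X (X.basicOpen_le r)).toAlgebra
    Nonempty (Γ(X, X.basicOpen r) ⊗[Γ(X, U)] Γ(M, U)
      ≃ₗ[Γ(X, X.basicOpen r)] Γ(M, X.basicOpen r)) := by
  letI := Module.compHom Γ(M, X.basicOpen r) (resO X (X.basicOpen_le r))
  obtain ⟨g, hg, htower⟩ := Groth.Agent.LocFree.exists_resMap hM hU r
  haveI := hU.isLocalization_basicOpen r
  haveI := hg
  haveI := htower
  exact ⟨(IsLocalizedModule.isBaseChange (Submonoid.powers r) Γ(X, X.basicOpen r) g).equiv⟩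

lemma ideal_basicOpen (hM : Coh.IsQCoh M) (hft : CohB1.IsFT M) (U : X.affineOpens) (r : Γ(X, U))
    (k : ℕ) : (Fitt.ideal Γ(X, U) Γ(M, U) k).map (X.presheaf.map (homOfLE <| X.basicOpen_le r).op).hom
      = Fitt.ideal Γ(X, X.basicOpen r) Γ(M, X.basicOpen r) k := by
  letI : Algebra Γ(X, U.1) Γ(X, X.basicOpen r) := (resO X (X.basicOpen_le r)).toAlgebra
  haveI : Module.Finite Γ(X, U.1) Γ(M, U.1) := finite_sections U.2 (hM := hM) hft
  obtain ⟨e⟩ := exists_sectionsEquiv hM U.2 r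
  rw [← ideal_congr e, ideal_baseChange]
  rfl

/-- The Fitting ideals of sections as an ideal sheaf. -/
noncomputable def fittData (hM : Coh.IsQCoh M) (hft : CohB1.IsFT M) (k : ℕ) : X.IdealSheafData where
  ideal U := Fitt.ideal Γ(X, U) Γ(M, U) k
  map_ideal_basicOpen U f := ideal_basicOpen hM hft U f k

lemma sheafIdeal_eq (hM : Coh.IsQCoh M) (hft : CohB1.IsFT M) (k : ℕ) :
    Fitt.sheafIdeal M k = fittData hM hft k :=
  Scheme.IdealSheafData.ofIdeals_ideal (fittData hM hft k)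

/-- Values of the Fitting ideal sheaf. -/
lemma sheafIdeal_ideal (hM : Coh.IsQCoh M) (hft : CohB1.IsFT M) (k : ℕ) (U : X.affineOpens) :
    (Fitt.sheafIdeal M k).ideal U = Fitt.ideal Γ(X, U) Γ(M, U) k := by
  rw [sheafIdeal_eq hM hft]
  rfl

lemma mem_support_iff (I : X.IdealSheafData) (U : X.affineOpens) {x : X} (hx : x ∈ U.1) :
    x ∈ I.support ↔ I.ideal U ≤ (U.2.primeIdealOf ⟨x, hx⟩).asIdeal := by
  have h1 : x ∈ (I.support : Set X) ↔ x ∈ X.zeroLocus (U := U.1) (I.ideal U) := by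
    have := Set.ext_iff.mp (I.coe_support_inter U) x
    simpa [hx] using this
  have key : ∀ f : Γ(X, U.1), f ∉ (U.2.primeIdealOf ⟨x, hx⟩).asIdeal ↔ x ∈ X.basicOpen f := by
    intro f
    rw [← U.2.fromSpec_image_basicOpen f]
    constructor
    · intro h
      exact ⟨U.2.primeIdealOf ⟨x, hx⟩, h, U.2.fromSpec_primeIdealOf ⟨x, hx⟩⟩
    · rintro ⟨p, hp, he⟩
      rw [← U.2.fromSpec.isOpenEmbedding.injective
        (he.trans (U.2.fromSpec_primeIdealOf ⟨x, hx⟩).symm)]
      exact hp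
  rw [← SetLike.mem_coe, h1, Scheme.mem_zeroLocus_iff]
  simp only [SetLike.mem_coe, ← key, not_not]
  exact Iff.rfl

end FittLib
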