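import Mathlib
import Groth.Agent.FittLib.Sheaf
import Groth.Agent.QC.Pullback
import Groth.Agent.S3873

/-!
# Inverse images of ideal sheaves on affines, and Fitting ideals of pullbacks
-/

set_option autoImplicit false
set_option backward.isDefEq.respectTransparency false

universe u

open CategoryTheory AlgebraicGeometry TopologicalSpace Opposite Groth.Agent.QC TensorProduct

namespace FittLib

lemma idealSpec_ideal_top (R : Type u) [CommRing R] (c : Ideal R) :
    (FSch.idealSpec R c).ideal ⟨⊤, isAffineOpen_top _⟩ =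
      c.comap (Scheme.ΓSpecIso (CommRingCat.of R)).hom.hom := by
  rw [FSch.idealSpec, Scheme.Hom.ker_apply]
  ext r
  rw [RingHom.mem_ker, Ideal.mem_comap]
  have h := Scheme.ΓSpecIso_naturality (CommRingCat.ofHom (Ideal.Quotient.mk c))
  have h2 := CategoryTheory.ConcreteCategory.congr_hom h r
  have hinj := (CategoryTheory.ConcreteCategory.bijective_of_isIso
    (Scheme.ΓSpecIso (CommRingCat.of (R ⧸ c))).hom).1
  constructor
  · intro hr
    refine Ideal.Quotient.eq_zero_iff_mem.1 (h2.symm.trans ?_)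
    exact (congrArg (Scheme.ΓSpecIso (CommRingCat.of (R ⧸ c))).hom.hom hr).trans (map_zero _)
  · intro hr
    refine hinj (h2.trans ?_)
    exact (Ideal.Quotient.eq_zero_iff_mem.2 hr).trans (map_zero _).symm

lemma idealSpec_injective (R : Type u) [CommRing R] : Function.Injective (FSch.idealSpec R) := by
  intro c d h
  have h1 : (FSch.idealSpec R c).ideal ⟨⊤, isAffineOpen_top _⟩ =
      (FSch.idealSpec R d).ideal ⟨⊤, isAffineOpen_top _⟩ := by rw [h]
  rw [idealSpec_ideal_top, idealSpec_ideal_top] at h1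
  exact Ideal.comap_injective_of_surjective _
    (CategoryTheory.ConcreteCategory.bijective_of_isIso
      (Scheme.ΓSpecIso (CommRingCat.of R)).hom).2 h1

variable {X Y : Scheme.{u}}

lemma comap_fromSpec (I : X.IdealSheafData) {U : X.Opens} (hU : IsAffineOpen U) :
    I.comap hU.fromSpec = FSch.idealSpec Γ(X, U) (I.ideal ⟨U, hU⟩) := by
  refine Scheme.IdealSheafData.ext_of_isAffine ?_
  rw [idealSpec_ideal_top, Scheme.IdealSheafData.ideal_comap_of_isOpenImmersion]
  ext r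
  simp only [Ideal.mem_comap]
  obtain ⟨a, rfl⟩ : ∃ a : Γ(X, U), (Scheme.ΓSpecIso Γ(X, U)).inv a = r :=
    (CategoryTheory.ConcreteCategory.bijective_of_isIso (Scheme.ΓSpecIso Γ(X, U)).inv).2 r
  have h1 : (Scheme.ΓSpecIso Γ(X, U)).hom ((Scheme.ΓSpecIso Γ(X, U)).inv a) = a :=
    (Scheme.ΓSpecIso Γ(X, U)).inv_hom_id_apply a
  have htop : ((⊤ : (Spec Γ(X, U)).Opens).leTop).op = 𝟙 _ := rfl
  have h2 := appIso_inv_fromSpec hU ⊤ a
  rw [htop, CategoryTheory.Functor.map_id] at h2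
  simp only [CommRingCat.id_apply] at h2
  refine Iff.trans (Iff.of_eq (congrArg (· ∈ _) h2)) (Iff.trans ?_ (Iff.of_eq (congrArg (· ∈ _) h1.symm)))
  have e : hU.fromSpec ''ᵁ ⊤ = U := image_fromSpec_top hU
  constructor
  · intro h
    have := I.ideal_le_comap_ideal (U := ⟨U, hU⟩)
      (V := ⟨hU.fromSpec ''ᵁ ⊤, (isAffineOpen_top _).image_of_isOpenImmersion _⟩) e.ge h
    rw [Ideal.mem_comap] at this
    have h3 : resO X e.ge (resO X (image_fromSpec_le hU ⊤) a) = a := by
      rw [resO_resO]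
      exact congrArg (fun k => k.hom a) (X.presheaf.map_id _)
    exact h3 ▸ this
  · intro h
    exact I.ideal_le_comap_ideal (U := ⟨hU.fromSpec ''ᵁ ⊤, (isAffineOpen_top _).image_of_isOpenImmersion _⟩)
      (V := ⟨U, hU⟩) e.le h

/-- Inverse image ideals on affine opens. -/
lemma comap_ideal (f : X ⟶ Y) (I : Y.IdealSheafData) {U : Y.Opens} (hU : IsAffineOpen U)
    {V : X.Opens} (hV : IsAffineOpen V) (h : V ≤ f ⁻¹ᵁ U) :
    (I.comap f).ideal ⟨V, hV⟩ = (I.ideal ⟨U, hU⟩).map (f.appLE U V h).hom := by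
  refine idealSpec_injective Γ(X, V) ?_
  rw [← comap_fromSpec, ← Scheme.IdealSheafData.comap_comp,
    ← IsAffineOpen.SpecMap_appLE_fromSpec f hU hV h, Scheme.IdealSheafData.comap_comp, comap_fromSpec]
  exact Groth.Agent.S3873.result Γ(X, V) Γ(Y, U) (f.appLE U V h).hom (I.ideal ⟨U, hU⟩)

lemma ideal_pullback (f : X ⟶ Y) {F : Y.Modules} (hF : Coh.IsQCoh F) (hft : CohB1.IsFT F)
    {U : Y.Opens} (hU : IsAffineOpen U) {V : X.Opens} (hV : IsAffineOpen V) (h : V ≤ f ⁻¹ᵁ U) (k : ℕ) :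
    Fitt.ideal Γ(X, V) Γ((Scheme.Modules.pullback f).obj F, V) k =
      (Fitt.ideal Γ(Y, U) Γ(F, U) k).map (f.appLE U V h).hom := by
  letI : Algebra Γ(Y, U) Γ(X, V) := (f.appLE U V h).hom.toAlgebra
  haveI : F.IsQuasicoherent := hF
  haveI : Module.Finite Γ(Y, U) Γ(F, U) := finite_sections hU (hM := hF) hft
  let G := (modulesSpecToSheaf.obj (F.restrict hU.fromSpec)).presheaf.obj (op ⊤)
  let e : G ≅ ModuleCat.of Γ(Y, U) Γ(F, U) := (topEquiv hU F).toModuleIso
  let P := (Scheme.Modules.pullback f).obj F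
  let l : Γ(X, V) ⊗[Γ(Y, U)] Γ(F, U) ≃ₗ[Γ(X, V)] Γ(P, V) :=
    ((ModuleCat.extendScalars.{u, u, u} (f.appLE U V h).hom).mapIso e).symm.toLinearEquiv.trans
      ((tilde.toTildeΓNatIso.app ((ModuleCat.extendScalars.{u, u, u} (f.appLE U V h).hom).obj G) ≪≫
        moduleSpecΓFunctor.mapIso (pullbackAffineIso f hU hV h).symm).toLinearEquiv.trans
        (topEquiv hV P))
  rw [← ideal_congr l, ideal_baseChange]
  rfl

theorem sheafIdeal_comap (f : X ⟶ Y) {F : Y.Modules} (hF : Coh.IsQCoh F) (hft : CohB1.IsFT F)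
    (hF' : Coh.IsQCoh ((Scheme.Modules.pullback f).obj F))
    (hft' : CohB1.IsFT ((Scheme.Modules.pullback f).obj F)) (k : ℕ) :
    (Fitt.sheafIdeal F k).comap f = Fitt.sheafIdeal ((Scheme.Modules.pullback f).obj F) k := by
  choose U hU V hV hVU hx using exists_affine_pair f
  refine Scheme.IdealSheafData.ext_of_iSup_eq_top (fun x => ⟨V x, hV x⟩)
    (eq_top_iff.mpr fun x _ => Opens.mem_iSup.mpr ⟨x, hx x⟩) fun x => ?_
  rw [comap_ideal f _ (hU x) (hV x) (hVU x), sheafIdeal_ideal hF hft, sheafIdeal_ideal hF' hft',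
    ideal_pullback f hF hft (hU x) (hV x) (hVU x)]

end FittLib
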