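import Mathlib
import Groth.Agent.FittLib.Comap
import Groth.Agent.QC.OmegaAffineSect
import Groth.Agent.QC.IdealMod
import Groth.Prelude.Def_Omega2

/-!
# Fitting ideals of the sheaf of differentials
-/

set_option autoImplicit false
set_option backward.isDefEq.respectTransparency false

universe u

open CategoryTheory CategoryTheory.Limits AlgebraicGeometry TopologicalSpace Opposite
open Groth.Agent.QC TensorProduct

attribute [local instance] Algebra.TensorProduct.rightAlgebra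

namespace FittLib

/-- Transport along a semilinear bijection. -/
lemma ideal_map_of_semilinear {R R' : Type u} [CommRing R] [CommRing R'] {M M' : Type u}
    [AddCommGroup M] [Module R M] [AddCommGroup M'] [Module R' M'] [Module.Finite R M]
    (σ : R →+* R') (hσ : Function.Bijective σ) (T : M →+ M') (hT : Function.Bijective T)
    (hlin : ∀ (a : R) (m : M), T (a • m) = σ a • T m) (k : ℕ) :
    Fitt.ideal R' M' k = (Fitt.ideal R M k).map σ := by
  obtain ⟨n, x, hx⟩ := exists_generators R M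
  have hx' : Submodule.span R' (Set.range (T ∘ x)) = ⊤ := by
    rw [eq_top_iff]
    rintro y -
    obtain ⟨m, rfl⟩ := hT.2 y
    obtain ⟨c, hc⟩ := (Submodule.mem_span_range_iff_exists_fun R).mp
      (show m ∈ Submodule.span R (Set.range x) by rw [hx]; trivial)
    exact (Submodule.mem_span_range_iff_exists_fun R').mpr ⟨σ ∘ c, by simp [← hc, map_sum, hlin]⟩
  rw [ideal_eq_minors_fin x hx, ideal_eq_minors_fin _ hx']
  apply le_antisymm
  · refine minors_le fun z e hz => ?_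
    choose z' hz' using fun j i => hσ.2 (z j i)
    obtain rfl : (fun j i => σ (z' j i)) = z := funext fun j => funext (hz' j)
    rw [minor_map]
    refine Ideal.mem_map_of_mem _ (minor_mem_minors (fun j => mem_rel.mpr (hT.1 ?_)) e)
    simpa [map_sum, hlin] using mem_rel.mp (hz j)
  · rw [minors, Ideal.map_span, Ideal.span_le]
    rintro _ ⟨_, ⟨z, e, hz, rfl⟩, rfl⟩
    rw [SetLike.mem_coe, ← minor_map]
    refine minor_mem_minors (fun j => mem_rel.mpr ?_) e
    simpa [map_sum, hlin] using congrArg T (mem_rel.mp (hz j))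

lemma fromSpec_appLE_self {X : Scheme.{u}} {V : X.Opens} (hV : IsAffineOpen V)
    (e : ⊤ ≤ hV.fromSpec ⁻¹ᵁ V) (a : Γ(X, V)) :
    (Scheme.ΓSpecIso Γ(X, V)).hom (hV.fromSpec.appLE V ⊤ e a) = a := by
  rw [Scheme.Hom.appLE, hV.fromSpec_app_self, Category.assoc, ← CategoryTheory.Functor.map_comp]
  have h1 : ∀ (i : op (⊤ : (Spec Γ(X, V)).Opens) ⟶ op ⊤),
      (Spec Γ(X, V)).presheaf.map i = 𝟙 _ := fun i => by
    rw [Subsingleton.elim i (𝟙 _), CategoryTheory.Functor.map_id]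
  rw [h1, Category.comp_id, Iso.inv_hom_id_apply]

variable {X S : Scheme.{u}} (f : X ⟶ S) [QuasiSeparated f]

lemma isQCoh_omega : Coh.IsQCoh (Omega.sheaf f) :=
  isQCoh_pullback _ (isQCoh_idealMod _)

/-- Sections of the differentials over an affine over an affine. -/
lemma exists_omega_sections {U : S.Opens} (hU : IsAffineOpen U) {V : X.Opens} (hV : IsAffineOpen V)
    (h : V ≤ f ⁻¹ᵁ U) :
    letI : Algebra Γ(S, U) Γ(X, V) := (f.appLE U V h).hom.toAlgebra
    Nonempty (Γ(Omega.sheaf f, V) ≃ₗ[Γ(X, V)] Ω[Γ(X, V)⁄Γ(S, U)]) := by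
  letI : Algebra Γ(S, U) Γ(X, V) := (f.appLE U V h).hom.toAlgebra
  obtain ⟨ψ, T, hψ, -, hT, hlin, -⟩ := exists_sectEquiv_omega (R := Γ(S, U)) (A := Γ(X, V)) f
    hU.fromSpec hV.fromSpec (IsAffineOpen.SpecMap_appLE_fromSpec f hU hV h) V (image_fromSpec_top hV)
  have hid : ∀ a, ψ a = a := by
    intro a
    subst hψ
    exact fromSpec_appLE_self hV _ a
  exact ⟨LinearEquiv.ofBijective
    { toFun := T, map_add' := map_add T, map_smul' := fun a m => by simp [hlin, hid] } hT⟩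

lemma finite_omega [LocallyOfFiniteType f] {U : S.Opens} (hU : IsAffineOpen U) {V : X.Opens}
    (hV : IsAffineOpen V) (h : V ≤ f ⁻¹ᵁ U) : Module.Finite Γ(X, V) Γ(Omega.sheaf f, V) := by
  letI : Algebra Γ(S, U) Γ(X, V) := (f.appLE U V h).hom.toAlgebra
  haveI : Algebra.FiniteType Γ(S, U) Γ(X, V) :=
    HasRingHomProperty.appLE @LocallyOfFiniteType f ‹_› ⟨U, hU⟩ ⟨V, hV⟩ h
  obtain ⟨e⟩ := exists_omega_sections f hU hV h
  exact Module.Finite.equiv e.symm

lemma isFT_omega [LocallyOfFiniteType f] : CohB1.IsFT (Omega.sheaf f) := by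
  refine isFT_iff_exists_hasFinGen.mpr fun x => ?_
  obtain ⟨U, hU, V, hV, hVU, hx⟩ := exists_affine_pair f x
  haveI := finite_omega f hU hV hVU
  exact ⟨V, hx, hasFinGen_of_finite hV (hM := isQCoh_omega f)⟩

lemma ideal_omega [LocallyOfFiniteType f] {U : S.Opens} (hU : IsAffineOpen U) {V : X.Opens}
    (hV : IsAffineOpen V) (h : V ≤ f ⁻¹ᵁ U) (k : ℕ) :
    letI : Algebra Γ(S, U) Γ(X, V) := (f.appLE U V h).hom.toAlgebra
    Fitt.ideal Γ(X, V) Γ(Omega.sheaf f, V) k = Fitt.ideal Γ(X, V) Ω[Γ(X, V)⁄Γ(S, U)] k := by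
  letI : Algebra Γ(S, U) Γ(X, V) := (f.appLE U V h).hom.toAlgebra
  haveI := finite_omega f hU hV h
  obtain ⟨e⟩ := exists_omega_sections f hU hV h
  exact ideal_congr e k

lemma ideal_kaehler_baseChange (R B A : Type u) [CommRing R] [CommRing B] [CommRing A] [Algebra R B]
    [Algebra R A] [Algebra.FiniteType R A] (k : ℕ) :
    Fitt.ideal (B ⊗[R] A) Ω[(B ⊗[R] A)⁄B] k = (Fitt.ideal A Ω[A⁄R] k).map
      (Algebra.TensorProduct.includeRight : A →ₐ[R] B ⊗[R] A).toRingHom := by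
  rw [← ideal_congr (KaehlerDifferential.tensorKaehlerEquiv R B A (B ⊗[R] A)) k, ideal_baseChange]
  rfl

theorem sheafIdeal_omega_comap [LocallyOfFiniteType f] {S' : Scheme.{u}} (g : S' ⟶ S) (k : ℕ) :
    (Fitt.sheafIdeal (Omega.sheaf f) k).comap (pullback.fst f g) =
      Fitt.sheafIdeal (Omega.sheaf (pullback.snd f g)) k := by
  have hpt : ∀ z : (pullback f g : Scheme.{u}), ∃ W : (pullback f g).affineOpens, z ∈ W.1 ∧
      ((Fitt.sheafIdeal (Omega.sheaf f) k).comap (pullback.fst f g)).ideal W =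
        (Fitt.sheafIdeal (Omega.sheaf (pullback.snd f g)) k).ideal W := by
    intro z
    obtain ⟨U, hU, hxU⟩ := exists_affine_mem (f (pullback.fst f g z))
    obtain ⟨V, hV, hxV, hVU⟩ := exists_isAffineOpen_mem_and_subset (X := X) (U := f ⁻¹ᵁ U) hxU
    have hz' : g (pullback.snd f g z) ∈ U := by
      rw [← Scheme.Hom.comp_apply, ← pullback.condition, Scheme.Hom.comp_apply]
      exact hxU
    obtain ⟨U', hU', hzU', hU'U⟩ :=
      exists_isAffineOpen_mem_and_subset (X := S') (U := g ⁻¹ᵁ U) hz'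
    letI : Algebra Γ(S, U) Γ(X, V) := (f.appLE U V hVU).hom.toAlgebra
    letI : Algebra Γ(S, U) Γ(S', U') := (g.appLE U U' hU'U).hom.toAlgebra
    haveI : Algebra.FiniteType Γ(S, U) Γ(X, V) :=
      HasRingHomProperty.appLE @LocallyOfFiniteType f ‹_› ⟨U, hU⟩ ⟨V, hV⟩ hVU
    let a := Spec.map (CommRingCat.ofHom (algebraMap Γ(S, U) Γ(X, V)))
    let b := Spec.map (CommRingCat.ofHom (algebraMap Γ(S, U) Γ(S', U')))
    have wa : a ≫ hU.fromSpec = hV.fromSpec ≫ f := IsAffineOpen.SpecMap_appLE_fromSpec f hU hV hVU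
    have wb : b ≫ hU.fromSpec = hU'.fromSpec ≫ g := IsAffineOpen.SpecMap_appLE_fromSpec g hU hU' hU'U
    let j : Spec (CommRingCat.of (Γ(S', U') ⊗[Γ(S, U)] Γ(X, V))) ⟶ pullback f g :=
      (pullbackSpecIso Γ(S, U) Γ(S', U') Γ(X, V)).inv ≫ (pullbackSymmetry b a).hom ≫
        pullback.map a b f g hV.fromSpec hU'.fromSpec hU.fromSpec wa wb
    have hfst : j ≫ pullback.fst f g = Spec.map (CommRingCat.ofHom
        (Algebra.TensorProduct.includeRight :
          Γ(X, V) →ₐ[Γ(S, U)] Γ(S', U') ⊗[Γ(S, U)] Γ(X, V)).toRingHom) ≫ hV.fromSpec := by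
      simp [j, a, b]
    have hsnd : j ≫ pullback.snd f g = Spec.map (CommRingCat.ofHom
        (algebraMap Γ(S', U') (Γ(S', U') ⊗[Γ(S, U)] Γ(X, V)))) ≫ hU'.fromSpec := by
      simp [j, a, b]
      rfl
    haveI : IsOpenImmersion j := inferInstanceAs (IsOpenImmersion (_ ≫ _ ≫ _))
    let W : (pullback f g).affineOpens := ⟨j ''ᵁ ⊤, (isAffineOpen_top _).image_of_isOpenImmersion j⟩
    refine ⟨W, ?_, ?_⟩
    · have hr : z ∈ Set.range (pullback.map a b f g hV.fromSpec hU'.fromSpec hU.fromSpec wa wb) := by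
        rw [Scheme.Pullback.range_map]
        exact ⟨hV.range_fromSpec.symm ▸ hxV, hU'.range_fromSpec.symm ▸ hzU'⟩
      obtain ⟨q, hq⟩ := hr
      refine ⟨(pullbackSpecIso Γ(S, U) Γ(S', U') Γ(X, V)).hom ((pullbackSymmetry b a).inv q),
        trivial, ?_⟩
      have hi : ∀ {A B : Scheme.{u}} (e : A ≅ B) (y : A), e.inv (e.hom y) = y := fun e y => by
        rw [← Scheme.Hom.comp_apply, e.hom_inv_id]; rfl
      have hi' : ∀ {A B : Scheme.{u}} (e : A ≅ B) (y : B), e.hom (e.inv y) = y := fun e y => by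
        rw [← Scheme.Hom.comp_apply, e.inv_hom_id]; rfl
      change pullback.map a b f g hV.fromSpec hU'.fromSpec hU.fromSpec wa wb ((pullbackSymmetry b a).hom
        ((pullbackSpecIso Γ(S, U) Γ(S', U') Γ(X, V)).inv
          ((pullbackSpecIso Γ(S, U) Γ(S', U') Γ(X, V)).hom ((pullbackSymmetry b a).inv q)))) = z
      exact (congrArg _ ((congrArg _ (hi _ _)).trans (hi' _ _))).trans hq
    have hWV : W.1 ≤ pullback.fst f g ⁻¹ᵁ V := by
      rintro _ ⟨q, -, rfl⟩
      change (j ≫ pullback.fst f g) q ∈ V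
      rw [hfst]
      exact hV.range_fromSpec.subset ⟨_, rfl⟩
    haveI : LocallyOfFiniteType (pullback.snd f g) := MorphismProperty.pullback_snd _ _ inferInstance
    haveI := finite_omega f hU hV hVU
    rw [comap_ideal (pullback.fst f g) _ hV W.2 hWV, sheafIdeal_ideal (isQCoh_omega f) (isFT_omega f),
      ideal_omega f hU hV hVU, sheafIdeal_ideal (isQCoh_omega _) (isFT_omega _)]
    obtain ⟨ψ, T, hψ, hψb, hT, hlin, -⟩ := exists_sectEquiv_omega (R := Γ(S', U'))
      (A := Γ(S', U') ⊗[Γ(S, U)] Γ(X, V)) (pullback.snd f g) hU'.fromSpec j hsnd.symm W.1 rfl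
    haveI : Module.Finite Γ(pullback f g, W.1) Γ(Omega.sheaf (pullback.snd f g), W.1) :=
      finite_sections W.2 (hM := isQCoh_omega _) (isFT_omega _)
    refine (Ideal.comap_map_of_bijective ψ hψb).symm.trans ((congrArg (Ideal.comap ψ) ?_).trans (Ideal.comap_map_of_bijective ψ hψb))
    rw [← ideal_map_of_semilinear ψ hψb T hT hlin, ideal_kaehler_baseChange, Ideal.map_map]
    congr 1
    ext t
    subst hψ
    have e1 : ⊤ ≤ j ⁻¹ᵁ W.1 := (j.preimage_image_eq ⊤).ge
    change (Scheme.ΓSpecIso _).hom (j.appLE W.1 ⊤ e1 ((pullback.fst f g).appLE V W.1 hWV t)) = _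
    rw [← CommRingCat.comp_apply ((pullback.fst f g).appLE V W.1 hWV), Scheme.Hom.appLE_comp_appLE]
    have e2 : ⊤ ≤ hV.fromSpec ⁻¹ᵁ V := hV.fromSpec_preimage_self.ge
    rw [appLE_specMap_comp hV.fromSpec _ V e2 _ hfst]
    exact congrArg _ (fromSpec_appLE_self hV e2 t)
  choose W hzW hW using hpt
  exact Scheme.IdealSheafData.ext_of_iSup_eq_top W
    (eq_top_iff.mpr fun z _ => Opens.mem_iSup.mpr ⟨z, hzW z⟩) hW

end FittLib
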