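import Mathlib
import Groth.Agent.FittLib.Sheaf
import Groth.Agent.LocFree.Props

/-!
# Free modules of given rank and generators over affine opens
-/

set_option autoImplicit false
set_option backward.isDefEq.respectTransparency false

universe u

open CategoryTheory CategoryTheory.Limits AlgebraicGeometry TopologicalSpace Opposite Groth.Agent.QC

namespace FittLib

variable {X : Scheme.{u}} {M : X.Modules}

/-- `tilde` of a free module is `freeMod`. -/
noncomputable def tildeFreeIso (R : CommRingCat.{u}) (n : ℕ) :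
    tilde (ModuleCat.of R (ULift.{u} (Fin n) →₀ R)) ≅ FlatMod.freeMod (Spec R) n :=
  tildeFinsupp (R := R) (ULift.{u} (Fin n)) ≪≫
    Sigma.whiskerEquiv (f := fun _ : ULift.{u} (Fin n) => Coh.structureModule (Spec R))
      (g := fun _ : Fin n => Coh.structureModule (Spec R)) Equiv.ulift (fun _ => Iso.refl _)

lemma exists_epi_of_span (hM : Coh.IsQCoh M) {U : X.Opens} (hU : IsAffineOpen U) {n : ℕ}
    (g : Fin n → Γ(M, U)) (hg : Submodule.span Γ(X, U) (Set.range g) = ⊤) :
    ∃ π : FlatMod.freeMod (↑U) n ⟶ M.restrict U.ι, Epi π := by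
  haveI : (M.restrict hU.fromSpec).IsQuasicoherent := isQCoh_restrict hU.fromSpec hM
  let N := (modulesSpecToSheaf.obj (M.restrict hU.fromSpec)).presheaf.obj (op ⊤)
  let eN : N ≅ ModuleCat.of Γ(X, U) Γ(M, U) := (topEquiv hU M).toModuleIso
  let q : ModuleCat.of Γ(X, U) (ULift.{u} (Fin n) →₀ Γ(X, U)) ⟶ ModuleCat.of Γ(X, U) Γ(M, U) :=
    ModuleCat.ofHom (Finsupp.linearCombination Γ(X, U) fun i => g i.down)
  haveI : Epi q := (ModuleCat.epi_iff_surjective _).mpr <| by
    change Function.Surjective (Finsupp.linearCombination Γ(X, U) fun i : ULift.{u} (Fin n) => g i.down)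
    rw [← LinearMap.range_eq_top, Finsupp.range_linearCombination]
    have : (Set.range fun i : ULift.{u} (Fin n) => g i.down) = Set.range g := by
      ext y
      exact ⟨fun ⟨i, hi⟩ => ⟨i.down, hi⟩, fun ⟨i, hi⟩ => ⟨⟨i⟩, hi⟩⟩
    rw [this, hg]
  let φ : ModuleCat.of Γ(X, U) (ULift.{u} (Fin n) →₀ Γ(X, U)) ⟶ N := q ≫ eN.inv
  haveI : Epi φ := inferInstanceAs (Epi (q ≫ eN.inv))
  haveI : PreservesColimitsOfSize.{u, u} (tilde.functor Γ(X, U)) :=
    tilde.adjunction.leftAdjoint_preservesColimits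
  haveI : Epi (tilde.map φ) := inferInstanceAs (Epi ((tilde.functor _).map φ))
  let π0 : FlatMod.freeMod (Spec Γ(X, U)) n ⟶ M.restrict hU.fromSpec :=
    (tildeFreeIso _ n).inv ≫ tilde.map φ ≫ (isoTildeΓ (M.restrict hU.fromSpec)).hom
  haveI : Epi π0 := inferInstanceAs (Epi (_ ≫ _ ≫ _))
  haveI : PreservesColimitsOfSize.{u, u} (Scheme.Modules.restrictFunctor hU.isoSpec.hom) :=
    inferInstance
  exact ⟨(Groth.Agent.DerPerf.pullFreeIso hU.isoSpec.hom n).inv ≫
    (Scheme.Modules.restrictFunctorIsoPullback hU.isoSpec.hom).inv.app _ ≫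
    (Scheme.Modules.restrictFunctor hU.isoSpec.hom).map π0 ≫ (fromSpecIso hU M).hom, inferInstance⟩

lemma exists_iso_of_basis (hM : Coh.IsQCoh M) {U : X.Opens} (hU : IsAffineOpen U) {n : ℕ}
    (b : Module.Basis (Fin n) Γ(X, U) Γ(M, U)) :
    Nonempty (M.restrict U.ι ≅ FlatMod.freeMod (↑U) n) := by
  haveI : (M.restrict hU.fromSpec).IsQuasicoherent := isQCoh_restrict hU.fromSpec hM
  let e2 : (modulesSpecToSheaf.obj (M.restrict hU.fromSpec)).presheaf.obj (op ⊤) ≅
      ModuleCat.of Γ(X, U) (ULift.{u} (Fin n) →₀ Γ(X, U)) :=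
    ((topEquiv hU M).trans (b.reindex Equiv.ulift.symm).repr).toModuleIso
  let e3 : M.restrict hU.fromSpec ≅ FlatMod.freeMod (Spec Γ(X, U)) n :=
    (isoTildeΓ (M.restrict hU.fromSpec)).symm ≪≫ (tilde.functor _).mapIso e2 ≪≫ tildeFreeIso _ n
  exact ⟨(fromSpecIso hU M).symm ≪≫
    (Scheme.Modules.restrictFunctor hU.isoSpec.hom).mapIso e3 ≪≫
    (Scheme.Modules.restrictFunctorIsoPullback hU.isoSpec.hom).app _ ≪≫
    Groth.Agent.DerPerf.pullFreeIso hU.isoSpec.hom n⟩

lemma span_of_epi (hM : Coh.IsQCoh M) {W : X.Opens} {n : ℕ}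
    (π : FlatMod.freeMod (↑W) n ⟶ M.restrict W.ι) [Epi π] {D : X.Opens} (hD : IsAffineOpen D)
    (hDW : D ≤ W) :
    ∃ g : Fin n → Γ(M, D), Submodule.span Γ(X, D) (Set.range g) = ⊤ ∧
      (IsIso π → LinearIndependent Γ(X, D) g) := by
  let ι' : Spec Γ(X, D) ⟶ (W : Scheme.{u}) :=
    IsOpenImmersion.lift W.ι hD.fromSpec (by rw [hD.range_fromSpec, Scheme.Opens.range_ι]; exact hDW)
  have hι : ι' ≫ W.ι = hD.fromSpec := IsOpenImmersion.lift_fac _ _ _
  haveI : IsOpenImmersion (ι' ≫ W.ι) := by rw [hι]; infer_instance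
  haveI : IsOpenImmersion ι' := IsOpenImmersion.of_comp ι' W.ι
  haveI : PreservesColimitsOfSize.{u, u} (Scheme.Modules.restrictFunctor ι') := inferInstance
  haveI : (M.restrict hD.fromSpec).IsQuasicoherent := isQCoh_restrict hD.fromSpec hM
  let N := (modulesSpecToSheaf.obj (M.restrict hD.fromSpec)).presheaf.obj (op ⊤)
  let F := ModuleCat.of Γ(X, D) (ULift.{u} (Fin n) →₀ Γ(X, D))
  let ψ : tilde F ⟶ tilde N :=
    (tildeFreeIso _ n).hom ≫ (Groth.Agent.DerPerf.pullFreeIso ι' n).inv ≫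
      (Scheme.Modules.restrictFunctorIsoPullback ι').inv.app _ ≫
      (Scheme.Modules.restrictFunctor ι').map π ≫
      (Scheme.Modules.restrictFunctorComp ι' W.ι).inv.app M ≫
      (Scheme.Modules.restrictFunctorCongr hι).hom.app M ≫
      (isoTildeΓ (M.restrict hD.fromSpec)).inv
  obtain ⟨φ, hφ⟩ := (tilde.functor Γ(X, D)).map_surjective ψ
  haveI : Epi (tilde.map φ) := by
    change Epi ((tilde.functor _).map φ)
    rw [hφ]
    infer_instance
  have hsurj := surjective_of_epi_tilde φ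
  let l : (ULift.{u} (Fin n) →₀ Γ(X, D)) →ₗ[Γ(X, D)] Γ(M, D) :=
    (topEquiv hD M).toLinearMap ∘ₗ φ.hom
  have hl : Function.Surjective l := (topEquiv hD M).surjective.comp hsurj
  have hlin : l = Finsupp.linearCombination Γ(X, D) (fun i => l (Finsupp.single i 1)) := by
    ext i; simp
  have hrange : (Set.range fun i : ULift.{u} (Fin n) => l (Finsupp.single i 1)) =
      Set.range fun i : Fin n => l (Finsupp.single (ULift.up i) 1) := by
    ext y
    exact ⟨fun ⟨i, hi⟩ => ⟨i.down, hi⟩, fun ⟨i, hi⟩ => ⟨⟨i⟩, hi⟩⟩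
  refine ⟨fun i => l (Finsupp.single (ULift.up i) 1), ?_, fun hiso => ?_⟩
  · rw [← hrange, ← Finsupp.range_linearCombination, ← hlin, LinearMap.range_eq_top]
    exact hl
  · haveI : IsIso ((tilde.functor Γ(X, D)).map φ) := by rw [hφ]; infer_instance
    haveI : IsIso φ := isIso_of_reflects_iso φ (tilde.functor Γ(X, D))
    have hinj : Function.Injective l :=
      (topEquiv hD M).injective.comp (asIso φ).toLinearEquiv.injective
    exact (((Finsupp.basisSingleOne (R := Γ(X, D)) (ι := ULift.{u} (Fin n))).linearIndependent.map'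
      l (LinearMap.ker_eq_bot.mpr hinj)).comp _ Equiv.ulift.symm.injective :)

end FittLib
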