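import Mathlib
import Groth.Agent.FittLib.BaseChange

/-!
# Fitting ideals from a matrix of relations
-/

universe u v w

namespace FittLib

variable {R : Type u} [CommRing R] {M : Type v} [AddCommGroup M] [Module R M]

lemma minors_eq_span_det {ι : Type*} [Fintype ι] {p : Type*} (x : ι → M) (V : p → ι → R)
    (hV : rel R x = Submodule.span R (Set.range V)) (m : ℕ) :
    minors R x m = Ideal.span {d | ∃ (f : Fin m → p) (e : Fin m → ι),
      d = (Matrix.of fun a b => V (f b) (e a)).det} := by
  apply le_antisymm
  · refine minors_le_of_span (Set.range V) hV.le fun z e hz => ?_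
    choose f hf using hz
    exact Ideal.subset_span ⟨f, e, by simp [minor, hf]⟩
  · rw [Ideal.span_le]
    rintro _ ⟨f, e, rfl⟩
    exact minor_mem_minors (z := fun b => V (f b))
      (fun b => hV.ge (Submodule.subset_span ⟨f b, rfl⟩)) e

end FittLib
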