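import Mathlib
import Groth.Agent.FittLib.Matrix

/-!
# The Jacobian criterion for embedding into a smooth algebra
-/

universe u

open TensorProduct MvPolynomial

namespace FittLib

variable (R A : Type u) [CommRing R] [CommRing A] [Algebra R A]

/-- Outside the `p`-th Fitting ideal of the differentials, `A` is locally a quotient of a standard
smooth algebra of relative dimension `p`. -/
lemma exists_standardSmooth_quotient [Algebra.FiniteType R A] (p : ℕ) {q : Ideal A}
    (h : ¬ Fitt.ideal A Ω[A⁄R] p ≤ q) :
    ∃ d ∉ q, ∃ (T : Type u) (_ : CommRing T) (_ : Algebra R T),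
      Algebra.IsStandardSmoothOfRelativeDimension p R T ∧
      ∃ φ : T →ₐ[R] Localization.Away d, Function.Surjective φ := by
  classical
  obtain ⟨n₀, F₀, hF₀⟩ := Algebra.FiniteType.iff_quotient_mvPolynomial''.mp ‹Algebra.FiniteType R A›
  let n := n₀ + p
  let F : MvPolynomial (Fin n) R →ₐ[R] A :=
    aeval (fun i : Fin n => if hi : (i : ℕ) < n₀ then F₀ (X ⟨i, hi⟩) else 0)
  have hF : Function.Surjective F := by
    intro a
    obtain ⟨g, rfl⟩ := hF₀ a
    refine ⟨rename (Fin.castAdd p) g, ?_⟩
    have : F.comp (rename (Fin.castAdd p)) = F₀ := by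
      ext i
      simp [F]
    exact AlgHom.congr_fun this g
  letI : Algebra (MvPolynomial (Fin n) R) A := F.toRingHom.toAlgebra
  haveI : IsScalarTower R (MvPolynomial (Fin n) R) A :=
    IsScalarTower.of_algebraMap_eq fun r => (F.commutes r).symm
  have hFalg : ∀ g, algebraMap (MvPolynomial (Fin n) R) A g = F g := fun g => rfl
  let b := (KaehlerDifferential.mvPolynomialBasis R (Fin n)).baseChange A
  let π := KaehlerDifferential.mapBaseChange R (MvPolynomial (Fin n) R) A
  have hπ : Function.Surjective π :=
    KaehlerDifferential.mapBaseChange_surjective R (MvPolynomial (Fin n) R) A hF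
  let x : Fin n → Ω[A⁄R] := fun i => π (b i)
  have hx : Submodule.span A (Set.range x) = ⊤ := by
    rw [show x = π ∘ b from rfl, Set.range_comp, Submodule.span_image, b.span_eq, Submodule.map_top,
      LinearMap.range_eq_top.mpr hπ]
  have hrow : ∀ v ∈ rel A x, ∃ r : MvPolynomial (Fin n) R, F r = 0 ∧
      ∀ i, v i = F (pderiv i r) := by
    intro v hv
    have h0 : π (∑ i, v i • b i) = 0 := by simpa [map_sum, x] using mem_rel.mp hv
    obtain ⟨c, hc⟩ :=
      (KaehlerDifferential.exact_kerCotangentToTensor_mapBaseChange R (MvPolynomial (Fin n) R) A hF _).mp h0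
    obtain ⟨⟨r, hr⟩, rfl⟩ := Ideal.toCotangent_surjective _ c
    rw [KaehlerDifferential.kerCotangentToTensor_toCotangent] at hc
    refine ⟨r, RingHom.mem_ker.mp hr, fun i => ?_⟩
    have h1 : b.repr ((1 : A) ⊗ₜ[MvPolynomial (Fin n) R]
        KaehlerDifferential.D R (MvPolynomial (Fin n) R) r) i = F (pderiv i r) := by
      rw [Module.Basis.baseChange_repr_tmul, KaehlerDifferential.mvPolynomialBasis_repr_apply,
        Algebra.smul_def, mul_one, hFalg]
    rw [← h1, hc, b.repr_sum_self]
  rw [ideal_eq_minors_fin x hx, minors, Ideal.span_le, Set.not_subset] at h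
  obtain ⟨_, ⟨z, e, hz, rfl⟩, hd⟩ := h
  have he : Function.Injective e := by
    by_contra he
    exact hd (by rw [minor_eq_zero_of_not_injective z e he]; exact q.zero_mem)
  choose r hr0 hrz using fun j => hrow (z j) (hz j)
  let K : Ideal (MvPolynomial (Fin n) R) := Ideal.span (Set.range r)
  let P : Algebra.PreSubmersivePresentation R (MvPolynomial (Fin n) R ⧸ K) (Fin n) (Fin (n - p)) :=
    Algebra.PreSubmersivePresentation.naive (v := r) e he
  let Δ : MvPolynomial (Fin n) R ⧸ K := P.jacobian
  have hjac : Δ = Ideal.Quotient.mk K (Matrix.of fun a b => pderiv (e a) (r b)).det := by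
    change P.jacobian = _
    rw [Algebra.PreSubmersivePresentation.jacobian_eq_jacobiMatrix_det]
    have : P.jacobiMatrix = Matrix.of fun a b => pderiv (e a) (r b) :=
      Matrix.ext fun a b => Algebra.PreSubmersivePresentation.jacobiMatrix_naive e he _ _ a b
    rw [this]
    rfl
  have hΔ : IsUnit (algebraMap (MvPolynomial (Fin n) R ⧸ K) (Localization.Away Δ) Δ) :=
    IsLocalization.Away.algebraMap_isUnit _
  let S : Algebra.SubmersivePresentation R (Localization.Away Δ) _ _ :=
    { toPreSubmersivePresentation := .comp (.localizationAway (Localization.Away Δ) Δ) P,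
      jacobian_isUnit := by simpa [Algebra.smul_def, -isUnit_map_iff, Δ] using hΔ }
  have hdim : S.dimension = p := by
    simp only [Algebra.PreSubmersivePresentation.dimension_comp_eq_dimension_add_dimension, S]
    simp [Algebra.Presentation.dimension, n]
  let G : (MvPolynomial (Fin n) R ⧸ K) →ₐ[R] A := Ideal.Quotient.liftₐ K F fun g hg => by
    refine RingHom.mem_ker.mp ((Ideal.span_le.mpr ?_) hg)
    rintro _ ⟨j, rfl⟩
    exact hr0 j
  have hG : Function.Surjective G := fun a => by
    obtain ⟨g, rfl⟩ := hF a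
    exact ⟨Ideal.Quotient.mk K g, rfl⟩
  have hGΔ : G Δ = minor z e := by
    rw [hjac]
    change F _ = _
    rw [minor, AlgHom.map_det]
    congr 1
    ext a b
    exact (hrz b (e a)).symm
  let L := Localization.Away (minor z e)
  have hu : IsUnit (((IsScalarTower.toAlgHom R A L).comp G) Δ) := by
    change IsUnit (algebraMap A L (G Δ))
    rw [hGΔ]
    exact IsLocalization.Away.algebraMap_isUnit _
  let φ : Localization.Away Δ →ₐ[R] L :=
    IsLocalization.Away.liftAlgHom (f := (IsScalarTower.toAlgHom R A L).comp G) Δ hu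
  have hφ : ∀ t, φ (algebraMap _ _ t) = algebraMap A L (G t) := fun t => by
    change IsLocalization.lift _ (algebraMap _ _ t) = _
    rw [IsLocalization.lift_eq]
    rfl
  refine ⟨minor z e, hd, Localization.Away Δ, inferInstance, inferInstance,
    ⟨_, _, _, inferInstance, S, hdim⟩, φ, fun y => ?_⟩
  obtain ⟨N, a, ha⟩ := IsLocalization.Away.surj (S := L) (minor z e) y
  obtain ⟨g, rfl⟩ := hG a
  obtain ⟨v, hv⟩ := hΔ
  refine ⟨algebraMap _ _ g * (↑(v⁻¹) : Localization.Away Δ) ^ N, ?_⟩
  have hinv : φ (↑(v⁻¹)) * algebraMap A L (minor z e) = 1 := by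
    have h2 : φ (algebraMap _ _ Δ) = algebraMap A L (minor z e) := (hφ Δ).trans (congrArg _ hGΔ)
    rw [← h2, ← map_mul, ← hv, Units.inv_mul, map_one]
  rw [map_mul, map_pow, hφ, ← ha]
  calc y * algebraMap A L (minor z e) ^ N * φ ↑(v⁻¹) ^ N
      = y * (φ ↑(v⁻¹) * algebraMap A L (minor z e)) ^ N := by ring
    _ = y := by rw [hinv, one_pow, mul_one]

/-- The converse: quotients of standard smooth algebras of relative dimension `p`. -/
lemma ideal_eq_top_of_surjective (p : ℕ) (T : Type u) [CommRing T] [Algebra R T]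
    [Algebra.IsStandardSmoothOfRelativeDimension p R T] (φ : T →ₐ[R] A) (hφ : Function.Surjective φ) :
    Fitt.ideal A Ω[A⁄R] p = ⊤ := by
  rcases subsingleton_or_nontrivial A with hA | hA
  · exact Subsingleton.elim _ _
  haveI : Nontrivial T := φ.toRingHom.domain_nontrivial
  haveI : Algebra.IsStandardSmooth R T :=
    Algebra.IsStandardSmoothOfRelativeDimension.isStandardSmooth p
  letI : Algebra T A := φ.toRingHom.toAlgebra
  haveI : IsScalarTower R T A := IsScalarTower.of_algebraMap_eq fun r => (φ.commutes r).symm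
  have hrk : Module.finrank T Ω[T⁄R] = p := Module.finrank_eq_of_rank_eq
    (Algebra.IsStandardSmoothOfRelativeDimension.rank_kaehlerDifferential p)
  haveI : Module.Finite T Ω[T⁄R] := inferInstance
  let b := (Module.finBasisOfFinrankEq T Ω[T⁄R] hrk).baseChange A
  let π := KaehlerDifferential.mapBaseChange R T A
  refine ideal_eq_top_of_generators (π ∘ b) ?_ (by simp)
  rw [Set.range_comp, Submodule.span_image, b.span_eq, Submodule.map_top,
    LinearMap.range_eq_top.mpr (KaehlerDifferential.mapBaseChange_surjective R T A hφ)]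

end FittLib
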