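import Mathlib
import Groth.Agent.FittLib.OmegaFit
import Groth.Agent.FittLib.Jacobian

/-!
# Jacobian loci and local embeddings into smooth schemes
-/

set_option autoImplicit false
set_option backward.isDefEq.respectTransparency false

universe u

open CategoryTheory CategoryTheory.Limits AlgebraicGeometry TopologicalSpace Opposite
open Groth.Agent.QC

namespace FittLib

theorem not_mem_support_omega_iff {X Y : Scheme.{u}} (f : X ⟶ Y) [LocallyOfFiniteType f]
    [QuasiSeparated f] (p : ℕ) (x : X) :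
    x ∉ (Fitt.sheafIdeal (Omega.sheaf f) p).support ↔
      ∃ (U : X.Opens) (U' : Scheme.{u}) (i : (U : Scheme.{u}) ⟶ U') (g : U' ⟶ Y),
        x ∈ U ∧ IsClosedImmersion i ∧ SmoothOfRelativeDimension p g ∧ i ≫ g = U.ι ≫ f := by
  constructor
  · intro hx0
    obtain ⟨U₀, hU₀, V, hV, hVU, hx⟩ := exists_affine_pair f x
    letI : Algebra Γ(Y, U₀) Γ(X, V) := (f.appLE U₀ V hVU).hom.toAlgebra
    haveI : Algebra.FiniteType Γ(Y, U₀) Γ(X, V) :=
      HasRingHomProperty.appLE @LocallyOfFiniteType f ‹_› ⟨U₀, hU₀⟩ ⟨V, hV⟩ hVU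
    rw [mem_support_iff _ ⟨V, hV⟩ hx, sheafIdeal_ideal (isQCoh_omega f) (isFT_omega f),
      ideal_omega f hU₀ hV hVU] at hx0
    obtain ⟨d, hd, T, _, _, hT, φ, hφ⟩ := exists_standardSmooth_quotient Γ(Y, U₀) Γ(X, V) p hx0
    have hD := hV.basicOpen d
    have hDU : X.basicOpen d ≤ f ⁻¹ᵁ U₀ := (X.basicOpen_le d).trans hVU
    have hxD : x ∈ X.basicOpen d := by
      have hfs : hV.fromSpec (hV.primeIdealOf ⟨x, hx⟩) = x := hV.fromSpec_primeIdealOf ⟨x, hx⟩
      have hm : hV.primeIdealOf ⟨x, hx⟩ ∈ hV.fromSpec ⁻¹ᵁ X.basicOpen d := by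
        rw [hV.fromSpec_preimage_basicOpen]
        exact hd
      rw [← hfs]
      exact hm
    letI : Algebra Γ(X, V) Γ(X, X.basicOpen d) :=
      (resO X (X.basicOpen_le d)).toAlgebra
    haveI := hV.isLocalization_basicOpen d
    let σ : Localization.Away d ≃ₐ[Γ(X, V)] Γ(X, X.basicOpen d) :=
      IsLocalization.algEquiv (Submonoid.powers d) _ _
    let ρ : T →+* Γ(X, X.basicOpen d) :=
      (σ : Localization.Away d →+* Γ(X, X.basicOpen d)).comp φ.toRingHom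
    have hρ : Function.Surjective ρ := σ.surjective.comp hφ
    have hρR : CommRingCat.ofHom (algebraMap Γ(Y, U₀) T) ≫ CommRingCat.ofHom ρ =
        f.appLE U₀ (X.basicOpen d) hDU := by
      rw [← f.appLE_map hVU (homOfLE (X.basicOpen_le d)).op]
      ext r
      change σ (φ (algebraMap _ _ r)) = _
      rw [φ.commutes, IsScalarTower.algebraMap_apply Γ(Y, U₀) Γ(X, V) (Localization.Away d),
        σ.commutes]
      rfl
    let i : ((X.basicOpen d : X.Opens) : Scheme.{u}) ⟶ Spec (CommRingCat.of T) :=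
      hD.isoSpec.hom ≫ Spec.map (CommRingCat.ofHom ρ)
    let g : Spec (CommRingCat.of T) ⟶ Y :=
      Spec.map (CommRingCat.ofHom (algebraMap Γ(Y, U₀) T)) ≫ hU₀.fromSpec
    refine ⟨X.basicOpen d, _, i, g, hxD, ?_, ?_, ?_⟩
    · haveI : IsClosedImmersion (Spec.map (CommRingCat.ofHom ρ)) :=
        IsClosedImmersion.spec_of_surjective _ hρ
      exact inferInstanceAs (IsClosedImmersion (_ ≫ _))
    · haveI : SmoothOfRelativeDimension p (Spec.map (CommRingCat.ofHom (algebraMap Γ(Y, U₀) T))) := by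
        rw [HasRingHomProperty.Spec_iff (P := @SmoothOfRelativeDimension p)]
        exact RingHom.locally_of RingHom.isStandardSmoothOfRelativeDimension_respectsIso _
          (RingHom.isStandardSmoothOfRelativeDimension_algebraMap p |>.mpr hT)
      exact inferInstanceAs (SmoothOfRelativeDimension (p + 0) (_ ≫ _))
    · simp only [i, g, Category.assoc, ← Spec.map_comp_assoc, hρR]
      rw [IsAffineOpen.SpecMap_appLE_fromSpec f hU₀ hD hDU, hD.isoSpec_hom_fromSpec_assoc]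
  · rintro ⟨U, U', i, g, hxU, hi, hg, hig⟩
    obtain ⟨U₀, hU₀, W, hW, hzW, hWU, hstd⟩ :=
      hg.exists_isStandardSmoothOfRelativeDimension (i ⟨x, hxU⟩)
    let W' : (U : Scheme.{u}).Opens := i ⁻¹ᵁ W
    have hW' : IsAffineOpen W' := hW.preimage i
    have hW'U : W' ≤ (i ≫ g) ⁻¹ᵁ U₀ := i.preimage_mono hWU
    letI : Algebra Γ(Y, U₀) Γ(U', W) := (g.appLE U₀ W hWU).hom.toAlgebra
    letI : Algebra Γ(Y, U₀) Γ((U : Scheme.{u}), W') := ((i ≫ g).appLE U₀ W' hW'U).hom.toAlgebra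
    haveI : Algebra.IsStandardSmoothOfRelativeDimension p Γ(Y, U₀) Γ(U', W) := hstd
    let φ : Γ(U', W) →ₐ[Γ(Y, U₀)] Γ((U : Scheme.{u}), W') :=
      { (i.app W).hom with
        commutes' := fun r => by
          change (g.appLE U₀ W hWU ≫ i.app W) r = (i ≫ g).appLE U₀ W' hW'U r
          rw [Scheme.Hom.app_eq_appLE, Scheme.Hom.appLE_comp_appLE] }
    have htop : Fitt.ideal Γ((U : Scheme.{u}), W') Ω[Γ((U : Scheme.{u}), W')⁄Γ(Y, U₀)] p = ⊤ :=
      ideal_eq_top_of_surjective Γ(Y, U₀) Γ((U : Scheme.{u}), W') p Γ(U', W) φ (i.app_surjective W hW)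
    let j := hW'.fromSpec ≫ U.ι
    have hsq : Spec.map (CommRingCat.ofHom (algebraMap Γ(Y, U₀) Γ((U : Scheme.{u}), W'))) ≫
        hU₀.fromSpec = j ≫ f := by
      rw [show j ≫ f = hW'.fromSpec ≫ (U.ι ≫ f) from Category.assoc _ _ _, ← hig]
      exact IsAffineOpen.SpecMap_appLE_fromSpec (i ≫ g) hU₀ hW' hW'U
    obtain ⟨ψ, T, -, hψ, hT, hlin, -⟩ := exists_sectEquiv_omega (R := Γ(Y, U₀))
      (A := Γ((U : Scheme.{u}), W')) f hU₀.fromSpec j hsq (j ''ᵁ ⊤) rfl
    have hWaff : IsAffineOpen (j ''ᵁ ⊤) := (isAffineOpen_top _).image_of_isOpenImmersion j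
    have hxW : x ∈ j ''ᵁ ⊤ := by
      obtain ⟨s, hs⟩ : (⟨x, hxU⟩ : (U : Scheme.{u})) ∈ Set.range hW'.fromSpec := by
        rw [hW'.range_fromSpec]
        exact hzW
      exact ⟨s, trivial, (congrArg U.ι hs : _)⟩
    haveI : Module.Finite Γ(X, j ''ᵁ ⊤) Γ(Omega.sheaf f, j ''ᵁ ⊤) :=
      finite_sections hWaff (hM := isQCoh_omega f) (isFT_omega f)
    rw [mem_support_iff _ ⟨_, hWaff⟩ hxW, sheafIdeal_ideal (isQCoh_omega f) (isFT_omega f)]
    intro hle
    have h2 := ideal_map_of_semilinear ψ hψ T hT hlin p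
    rw [htop] at h2
    have h3 : Fitt.ideal Γ(X, j ''ᵁ ⊤) Γ(Omega.sheaf f, j ''ᵁ ⊤) p = ⊤ := by
      rw [← Ideal.comap_map_of_bijective ψ hψ (I := Fitt.ideal Γ(X, j ''ᵁ ⊤)
        Γ(Omega.sheaf f, j ''ᵁ ⊤) p), ← h2, Ideal.comap_top]
    exact (hWaff.primeIdealOf ⟨x, hxW⟩).isPrime.ne_top (top_le_iff.mp (h3 ▸ hle))

end FittLib
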