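import Mathlib
import Groth.Agent.FittLib.JacobianScheme
import Groth.Agent.CMChart.AffineField
import Groth.Agent.LocalDimBC.Smooth
import Groth.Agent.GeomProp.SmoothReg
import Groth.Agent.RegLoc.Order
import Groth.Agent.Unibranch.ComponentTransfer
import Groth.Agent.CMChart.OverField

/-!
# Smoothness from Fitting ideals of differentials over a field
-/

set_option autoImplicit false
set_option backward.isDefEq.respectTransparency false

universe u

open CategoryTheory CategoryTheory.Limits AlgebraicGeometry TopologicalSpace Opposite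
open Groth.Agent Groth.Agent.QC

namespace FittLib

/-- Over a field: if `Fit_p Ω` is the unit ideal at `q` and the local dimension is at least `p`,
the algebra is smooth at `q`. -/
theorem isSmoothAt_of_not_le {k S : Type u} [Field k] [CommRing S] [Algebra k S]
    [Algebra.FiniteType k S] (q : Ideal S) [q.IsPrime] {p : ℕ}
    (h : ¬ Fitt.ideal S Ω[S⁄k] p ≤ q)
    (hdim : (p : WithBot ℕ∞) ≤ FlatMor.localDim (PrimeSpectrum S) ⟨q, inferInstance⟩) :
    Algebra.IsSmoothAt k q := by
  classical
  obtain ⟨d, hd, T, _, _, hT, φ, hφ⟩ := exists_standardSmooth_quotient k S p h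
  haveI : Algebra.IsStandardSmooth k T :=
    Algebra.IsStandardSmoothOfRelativeDimension.isStandardSmooth p
  haveI : IsNoetherianRing T := Algebra.FiniteType.isNoetherianRing k T
  haveI : IsNoetherianRing S := Algebra.FiniteType.isNoetherianRing k S
  let ψ₀ : Localization.Away d →ₐ[k] Localization.AtPrime q :=
    IsLocalization.liftAlgHom (M := Submonoid.powers d)
      (f := IsScalarTower.toAlgHom k S (Localization.AtPrime q)) (by
        rintro ⟨_, n, rfl⟩
        have hu : IsUnit (algebraMap S (Localization.AtPrime q) d) :=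
          IsLocalization.map_units (M := q.primeCompl) _ ⟨d, hd⟩
        simpa using hu.pow n)
  let ψ : T →ₐ[k] Localization.AtPrime q := ψ₀.comp φ
  have hrange : ∀ a : S, ∃ t, ψ t = algebraMap S _ a := fun a => by
    obtain ⟨t, ht⟩ := hφ (algebraMap S _ a)
    refine ⟨t, ?_⟩
    show ψ₀ (φ t) = _
    rw [ht]
    exact IsLocalization.lift_eq _ a
  let q' : Ideal T := (IsLocalRing.maximalIdeal (Localization.AtPrime q)).comap ψ
  haveI : q'.IsPrime := Ideal.comap_isPrime _ _
  let σ : Localization.AtPrime q' →ₐ[k] Localization.AtPrime q :=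
    IsLocalization.liftAlgHom (M := q'.primeCompl) (f := ψ) fun x => by
      by_contra hx
      exact x.2 ((IsLocalRing.mem_maximalIdeal _).mpr hx)
  have hσ' : ∀ t, σ (algebraMap T _ t) = ψ t := fun t => IsLocalization.lift_eq _ t
  have hσ : Function.Surjective σ := fun z => by
    obtain ⟨a, s, rfl⟩ := IsLocalization.exists_mk'_eq q.primeCompl z
    obtain ⟨t, ht⟩ := hrange a
    obtain ⟨t', ht'⟩ := hrange s
    have ht'q : t' ∈ q'.primeCompl := fun hm => by
      have hm' : ψ t' ∈ IsLocalRing.maximalIdeal (Localization.AtPrime q) := hm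
      rw [ht'] at hm'
      exact hm' (IsLocalization.map_units (M := q.primeCompl) _ s)
    refine ⟨IsLocalization.mk' _ t ⟨t', ht'q⟩, ?_⟩
    rw [IsLocalization.eq_mk'_iff_mul_eq, ← ht', ← ht, ← hσ' t', ← hσ' t, ← map_mul,
      IsLocalization.mk'_spec (S := Localization.AtPrime q') t ⟨t', ht'q⟩]
  haveI : IsLocalHom σ.toRingHom := .of_surjective _ hσ
  let ρ : q'.ResidueField →ₐ[k] q.ResidueField :=
    { IsLocalRing.ResidueField.map σ.toRingHom with
      commutes' := fun c => by
        show IsLocalRing.ResidueField.map σ.toRingHom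
          (IsLocalRing.residue _ (algebraMap k (Localization.AtPrime q') c)) = _
        rw [IsLocalRing.ResidueField.map_residue]
        exact congrArg (IsLocalRing.residue _) (σ.commutes c) }
  have hρ : Function.Bijective ρ := by
    refine ⟨ρ.toRingHom.injective, fun z => ?_⟩
    obtain ⟨z, rfl⟩ := IsLocalRing.residue_surjective z
    obtain ⟨w, rfl⟩ := hσ z
    exact ⟨IsLocalRing.residue _ w, IsLocalRing.ResidueField.map_residue σ.toRingHom w⟩
  obtain ⟨b, δ, hb, hD, hδ⟩ := CMChart.localDim_primeSpectrum (k := k) (⟨q, inferInstance⟩ : PrimeSpectrum S)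
  obtain ⟨b', δ', hb', hD', hδ'⟩ := CMChart.localDim_primeSpectrum (k := k) (⟨q', inferInstance⟩ : PrimeSpectrum T)
  rw [LocalDimBC.localDim_of_isStandardSmooth p (K := k)] at hD'
  have hp : p = b' + δ' := by exact_mod_cast hD'
  have hle : p ≤ b + δ := by
    rw [hD] at hdim
    exact_mod_cast hdim
  have hδδ : δ' = δ := by
    have he := (AlgEquiv.ofBijective ρ hρ).trdeg_eq
    exact Nat.cast_inj.mp (hδ'.symm.trans (he.trans hδ))
  haveI : Algebra.Smooth k T := inferInstance
  haveI : IsRegularRing T := GeomProp.isRegularRing_of_smooth k T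
  haveI : IsRegularLocalRing (Localization.AtPrime q') := isRegularRing_iff.1 ‹_› q'
  haveI : IsDomain (Localization.AtPrime q') := RegLoc.isDomain _
  have hinj : Function.Injective σ := by
    rw [injective_iff_map_eq_zero]
    intro r hr
    by_contra hr0
    have h1 := ringKrullDim_quotient_succ_le_of_nonZeroDivisor (mem_nonZeroDivisors_of_ne_zero hr0)
    have h2 : ringKrullDim (Localization.AtPrime q) ≤
        ringKrullDim (Localization.AtPrime q' ⧸ Ideal.span {r}) := by
      refine ringKrullDim_le_of_surjective (Ideal.Quotient.lift _ σ.toRingHom fun a ha => ?_)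
        (Ideal.Quotient.lift_surjective_of_surjective _ _ hσ)
      obtain ⟨c, rfl⟩ := Ideal.mem_span_singleton'.mp ha
      simp [map_mul, hr]
    have h3 : (b : WithBot ℕ∞) + 1 ≤ (b' : WithBot ℕ∞) :=
      le_trans (add_le_add_left (hb.ge.trans h2) _) (h1.trans hb'.le)
    have h3' : b + 1 ≤ b' := by exact_mod_cast h3
    omega
  haveI : Algebra.IsSmoothAt k q' := inferInstance
  exact Algebra.FormallySmooth.of_equiv (AlgEquiv.ofBijective σ ⟨hinj, hσ⟩)

/-- A point of a scheme locally of finite type over a field outside the `p`-th Jacobian locus, at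
which the local dimension is at least `p`, is a smooth point. -/
theorem mem_smoothLocus_of_not_mem {K : Type u} [Field K] {F : Scheme.{u}}
    (φ : F ⟶ Spec (CommRingCat.of K)) [LocallyOfFinitePresentation φ] [QuasiSeparated φ] {p : ℕ} (x : F)
    (h : x ∉ (Fitt.sheafIdeal (Omega.sheaf φ) p).support)
    (hdim : (p : WithBot ℕ∞) ≤ FlatMor.localDim F x) : x ∈ φ.smoothLocus := by
  obtain ⟨V, hV, hxV, -⟩ :=
    exists_isAffineOpen_mem_and_subset (X := F) (x := x) (U := ⊤) trivial
  have hT : IsAffineOpen (⊤ : (Spec (CommRingCat.of K)).Opens) := isAffineOpen_top _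
  have hVU : V ≤ φ ⁻¹ᵁ ⊤ := le_top
  letI : Field Γ(Spec (CommRingCat.of K), ⊤) :=
    ((Scheme.ΓSpecIso (CommRingCat.of K)).commRingCatIsoToRingEquiv.toMulEquiv.isField
      (Field.toIsField K)).toField
  letI : Algebra Γ(Spec (CommRingCat.of K), ⊤) Γ(F, V) := (φ.appLE ⊤ V hVU).hom.toAlgebra
  haveI : Algebra.FiniteType Γ(Spec (CommRingCat.of K), ⊤) Γ(F, V) :=
    HasRingHomProperty.appLE @LocallyOfFiniteType φ inferInstance ⟨_, hT⟩ ⟨V, hV⟩ hVU
  rw [mem_support_iff _ ⟨V, hV⟩ hxV, sheafIdeal_ideal (isQCoh_omega φ) (isFT_omega φ),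
    ideal_omega φ hT hV hVU] at h
  rw [Scheme.Hom.mem_smoothLocus, formallySmooth_stalkMap_iff ⊤ hT V hV hVU hxV]
  refine isSmoothAt_of_not_le _ h (hdim.trans (le_of_eq ?_))
  have hz : hV.fromSpec (hV.primeIdealOf ⟨x, hxV⟩) = x := hV.fromSpec_primeIdealOf ⟨x, hxV⟩
  have e := LocalDimBC.fibreDimAt_openImmersion_comp hV.fromSpec φ (hV.primeIdealOf ⟨x, hxV⟩)
  rw [CMChart.fibreDimAt_eq_localDim, CMChart.fibreDimAt_eq_localDim, hz] at e
  exact e.symm

/-- If all components of the fibre through `x` have dimension `d`, so has the fibre at `x`. -/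
theorem fibreDimAt_eq_of_components {X S : Scheme.{u}} (f : X ⟶ S) [LocallyOfFiniteType f] {d : ℕ}
    (x : X)
    (h : ∀ T ∈ irreducibleComponents ↥(f.fiber (f x)), topologicalKrullDim ↥T = d) :
    FlatMor.fibreDimAt f x = d := by
  haveI : LocallyOfFiniteType (f.fiberToSpecResidueField (f x)) := MorphismProperty.pullback_snd _ _ ‹_›
  let T₀ := irreducibleComponent (f.asFiber x)
  have hT₀ : T₀ ∈ irreducibleComponents ↥(f.fiber (f x)) := irreducibleComponent_mem_irreducibleComponents _
  refine le_antisymm (le_trans (iInf_le _ ⟨⊤, trivial⟩) ?_) ?_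
  · rw [← h T₀ hT₀]
    refine (le_of_eq (IsHomeomorph.topologicalKrullDim_eq _ (Homeomorph.Set.univ _).isHomeomorph)).trans
      (Unibranch.topologicalKrullDim_le_of_components fun Z hZ => ⟨Set.univ, ?_⟩)
    rw [h Z hZ, ← h T₀ hT₀]
    exact (IsHomeomorph.topologicalKrullDim_eq _ (Homeomorph.Set.univ _).isHomeomorph).symm
  · obtain ⟨z, hz⟩ := QuasiSober.sober hT₀.1 (isClosed_of_mem_irreducibleComponents T₀ hT₀)
    have hzx : z ⤳ f.asFiber x := hz.specializes mem_irreducibleComponent
    have hzmax : ∀ w, w ⤳ z → w = z := by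
      intro w hw
      have hsub : T₀ ⊆ closure {w} := by
        rw [← hz.def]
        exact closure_minimal (Set.singleton_subset_iff.mpr hw.mem_closure) isClosed_closure
      have hwC : w ∈ T₀ := hT₀.2 isIrreducible_singleton.closure hsub (subset_closure rfl)
      exact (Specializes.antisymm hw (hz.specializes hwC)).eq
    rw [← h T₀ hT₀, ← hz.def, LocalDimBC.topologicalKrullDim_closure_eq
      (K := S.residueField (f x)) (f.fiberToSpecResidueField (f x)) z hzmax]
    exact le_iInf fun U => iInf_le (fun W : {W : TopologicalSpace.Opens _ // z ∈ W} =>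
      topologicalKrullDim (W.1 : Set ↥(f.fiber (f x)))) ⟨U.1, hzx.mem_open U.1.2 U.2⟩

end FittLib
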