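import Mathlib
import Groth.Agent.FittLib.BaseChange

/-!
# Fitting ideals of a product
-/

universe u v w

namespace FittLib

variable {R : Type u} [CommRing R]

open Classical in
/-- Determinant of a matrix vanishing between two colours. -/
lemma det_eq_zero_or_prod {n : Type*} [Fintype n] [DecidableEq n] (A : Matrix n n R)
    (P Q : n → Prop) [DecidablePred P] [DecidablePred Q] (h : ∀ a b, ¬ (P a ↔ Q b) → A a b = 0) :
    (Fintype.card {a // P a} ≠ Fintype.card {b // Q b} ∧ A.det = 0) ∨
    ∃ (ε : {a // P a} ≃ {b // Q b}) (δ : {a // ¬ P a} ≃ {b // ¬ Q b}), ∃ s : R,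
      A.det = s * ((Matrix.of fun a c : {a // P a} => A a (ε c)).det *
        (Matrix.of fun a c : {a // ¬ P a} => A a (δ c)).det) := by
  by_cases hc : Fintype.card {a // P a} = Fintype.card {b // Q b}
  · right
    let ε := Fintype.equivOfCardEq hc
    have hc' : Fintype.card {a // ¬ P a} = Fintype.card {b // ¬ Q b} := by
      rw [Fintype.card_subtype_compl, Fintype.card_subtype_compl, hc]
    let δ := Fintype.equivOfCardEq hc'
    let σ : {a // P a} ⊕ {a // ¬ P a} ≃ n := Equiv.sumCompl P
    let τ : {a // P a} ⊕ {a // ¬ P a} ≃ n := (Equiv.sumCongr ε δ).trans (Equiv.sumCompl Q)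
    have hblk : A.submatrix σ τ = Matrix.fromBlocks (Matrix.of fun a c : {a // P a} => A a (ε c)) 0 0
        (Matrix.of fun a c : {a // ¬ P a} => A a (δ c)) := by
      ext (i | i) (j | j)
      · simp [σ, τ]
      · simp only [σ, τ, Matrix.submatrix_apply, Matrix.fromBlocks_apply₁₂, Matrix.zero_apply]
        exact h _ _ fun hh => (δ j).2 (by simpa using hh.mp i.2)
      · simp only [σ, τ, Matrix.submatrix_apply, Matrix.fromBlocks_apply₂₁, Matrix.zero_apply]
        exact h _ _ fun hh => i.2 (hh.mpr (by simpa using (ε j).2))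
      · simp [σ, τ]
    have hperm : A.submatrix σ τ = (A.submatrix id (σ.symm.trans τ)).submatrix σ σ := by
      ext i j; simp
    refine ⟨ε, δ, ((Equiv.Perm.sign (σ.symm.trans τ) : ℤ) : R), ?_⟩
    rw [← Matrix.det_fromBlocks_zero₂₁, ← hblk, hperm, Matrix.det_submatrix_equiv_self,
      Matrix.det_permute', ← mul_assoc, ← Int.cast_mul, ← Units.val_mul, Int.units_mul_self]
    simp
  · refine Or.inl ⟨hc, ?_⟩
    rw [Matrix.det_apply]
    refine Finset.sum_eq_zero fun σ _ => ?_
    by_cases hall : ∀ a, (P (σ a) ↔ Q a)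
    · exact absurd (Fintype.card_congr (Equiv.subtypeEquiv σ fun a => (hall a).symm)).symm hc
    · push Not at hall
      obtain ⟨a, ha⟩ := hall
      have h0 : A (σ a) a = 0 := h _ _ (by tauto)
      rw [Finset.prod_eq_zero (f := fun i => A (σ i) i) (Finset.mem_univ a) h0, smul_zero]

variable {M M' : Type v} [AddCommGroup M] [Module R M] [AddCommGroup M'] [Module R M']
variable {ι κ : Type*} [Fintype ι] [Fintype κ]

lemma det_mem_minors_fintype {x : ι → M} {n : Type*} [Fintype n] [DecidableEq n]
    {z : n → ι → R} (hz : ∀ j, z j ∈ rel R x) (e : n → ι) :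
    (Matrix.of fun a b => z b (e a)).det ∈ minors R x (Fintype.card n) := by
  rw [← Matrix.det_submatrix_equiv_self (Fintype.equivFin n).symm]
  exact minor_mem_minors (z := fun b => z ((Fintype.equivFin n).symm b)) (fun j => hz _)
    (e ∘ (Fintype.equivFin n).symm)

/-- The tuple generating `M × M'`. -/
def prodTuple (x : ι → M) (y : κ → M') : ι ⊕ κ → M × M' :=
  Sum.elim (fun i => (x i, 0)) (fun j => (0, y j))

lemma mem_rel_prodTuple {x : ι → M} {y : κ → M'} {w : ι ⊕ κ → R} :
    w ∈ rel R (prodTuple x y) ↔ w ∘ Sum.inl ∈ rel R x ∧ w ∘ Sum.inr ∈ rel R y := by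
  simp [mem_rel, Fintype.sum_sum_type, prodTuple, Prod.ext_iff, Prod.fst_sum, Prod.snd_sum]

lemma minors_prod_le (x : ι → M) (y : κ → M') (m : ℕ) :
    minors R (prodTuple x y) m ≤
      (Finset.range (m + 1)).sup fun p => minors R x p * minors R y (m - p) := by
  classical
  let GA : Set (ι ⊕ κ → R) := {w | w ∘ Sum.inl ∈ rel R x ∧ w ∘ Sum.inr = 0}
  let GB : Set (ι ⊕ κ → R) := {w | w ∘ Sum.inl = 0 ∧ w ∘ Sum.inr ∈ rel R y}
  refine minors_le_of_span (GA ∪ GB) ?_ ?_
  · intro w hw
    obtain ⟨h1, h2⟩ := mem_rel_prodTuple.mp hw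
    have : w = Sum.elim (w ∘ Sum.inl) (0 : κ → R) + Sum.elim (0 : ι → R) (w ∘ Sum.inr) := by
      funext i; cases i <;> simp
    rw [this]
    exact add_mem (Submodule.subset_span (Or.inl ⟨by simpa using h1, by simp⟩))
      (Submodule.subset_span (Or.inr ⟨by simp, by simpa using h2⟩))
  · intro z e hz
    rw [minor]
    have hR : ∀ j, z j ∉ GA → z j ∈ GB := fun j hj => (hz j).resolve_left hj
    rcases det_eq_zero_or_prod (Matrix.of fun a b => z b (e a)) (fun a => (e a).isLeft)
      (fun b => z b ∈ GA) (fun a b hab => by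
        rcases hea : e a with i | i
        · have hb : z b ∉ GA := fun hb => hab (by simp [hea, hb])
          simpa [hea] using congrFun (hR b hb).1 i
        · have hb : z b ∈ GA := by
            by_contra hb
            exact hab (by simp [hea, hb])
          simpa [hea] using congrFun hb.2 i) with ⟨-, h0⟩ | ⟨ε, δ, s, hs⟩
    · rw [h0]; exact zero_mem _
    rw [hs]
    refine Ideal.mul_mem_left _ _ ?_
    choose e1 he1 using fun a : {a // (e a).isLeft} => Sum.isLeft_iff.mp a.2
    choose e2 he2 using fun a : {a // ¬ (e a).isLeft = true} =>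
      Sum.isRight_iff.mp (by simpa using a.2)
    have hq : Fintype.card {a // ¬ (e a).isLeft = true} = m - Fintype.card {a // (e a).isLeft} := by
      rw [Fintype.card_subtype_compl, Fintype.card_fin]
    have hp : Fintype.card {a // (e a).isLeft} ∈ Finset.range (m + 1) := by
      rw [Finset.mem_range, Nat.lt_succ_iff]
      exact le_trans (Fintype.card_subtype_le _) (le_of_eq (Fintype.card_fin m))
    refine Finset.le_sup (f := fun p => minors R x p * minors R y (m - p)) hp (Ideal.mul_mem_mul ?_ ?_)
    · have := det_mem_minors_fintype (x := x) (z := fun c => z (ε c).1 ∘ Sum.inl)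
        (fun c => (ε c).2.1) e1
      simpa [he1] using this
    · have := det_mem_minors_fintype (x := y) (z := fun c => z (δ c).1 ∘ Sum.inr)
        (fun c => (hR _ (δ c).2).2) e2
      change _ ∈ minors R y (m - Fintype.card {a // (e a).isLeft})
      rw [← hq]
      simpa [he2] using this

lemma le_minors_prod (x : ι → M) (y : κ → M') (p q : ℕ) :
    minors R x p * minors R y q ≤ minors R (prodTuple x y) (p + q) := by
  classical
  rw [minors, minors, Ideal.span_mul_span', Ideal.span_le, Set.mul_subset_iff]
  rintro _ ⟨z1, e1, hz1, rfl⟩ _ ⟨z2, e2, hz2, rfl⟩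
  let L : (ι → R) → (ι ⊕ κ → R) := fun w => Sum.elim w 0
  let Rr : (κ → R) → (ι ⊕ κ → R) := fun w => Sum.elim 0 w
  let z : Fin p ⊕ Fin q → ι ⊕ κ → R := Sum.elim (fun j => L (z1 j)) (fun j => Rr (z2 j))
  have hz : ∀ j, z j ∈ rel R (prodTuple x y) := by
    rintro (j | j) <;> rw [mem_rel_prodTuple]
    · exact ⟨by simpa [z, L] using hz1 j, by simp [z, L]⟩
    · exact ⟨by simp [z, Rr], by simpa [z, Rr] using hz2 j⟩
  have := det_mem_minors_fintype hz (Sum.map e1 e2)
  rw [Fintype.card_sum, Fintype.card_fin, Fintype.card_fin] at this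
  have hblk : (Matrix.of fun a b => z b (Sum.map e1 e2 a))
      = Matrix.fromBlocks (Matrix.of fun a b => z1 b (e1 a)) 0 0 (Matrix.of fun a b => z2 b (e2 a)) := by
    ext (i | i) (j | j) <;> simp [z, L, Rr]
  rwa [hblk, Matrix.det_fromBlocks_zero₂₁] at this

theorem ideal_prod (R : Type u) [CommRing R] (M M' : Type v) [AddCommGroup M] [Module R M]
    [AddCommGroup M'] [Module R M'] [Module.Finite R M] [Module.Finite R M'] (l : ℕ) :
    Fitt.ideal R (M × M') l
      = ∑ k ∈ Finset.range (l + 1), Fitt.ideal R M k * Fitt.ideal R M' (l - k) := by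
  classical
  obtain ⟨n, x, hx⟩ := exists_generators R M
  obtain ⟨n', y, hy⟩ := exists_generators R M'
  have hxy : Submodule.span R (Set.range (prodTuple x y)) = ⊤ := by
    rw [prodTuple, Set.Sum.elim_range, Submodule.span_union]
    have h1 : Set.range (fun i => (x i, (0 : M'))) = LinearMap.inl R M M' '' Set.range x := by
      rw [← Set.range_comp]; rfl
    have h2 : Set.range (fun j => ((0 : M), y j)) = LinearMap.inr R M M' '' Set.range y := by
      rw [← Set.range_comp]; rfl
    rw [h1, h2, Submodule.span_image, Submodule.span_image, hx, hy, Submodule.map_top,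
      Submodule.map_top]
    exact LinearMap.sup_range_inl_inr
  rw [Ideal.sum_eq_sup, ideal_eq_minors (prodTuple x y) hxy, Fintype.card_sum, Fintype.card_fin,
    Fintype.card_fin]
  apply le_antisymm
  · rcases le_or_gt (n + n') l with hl | hl
    · refine le_trans le_top (le_trans (le_of_eq ?_)
        (Finset.le_sup (f := fun k => Fitt.ideal R M k * Fitt.ideal R M' (l - k))
          (show n ∈ Finset.range (l + 1) by simp; omega)))
      rw [ideal_eq_top_of_generators x hx (k := n) (by simp),
        ideal_eq_top_of_generators y hy (k := l - n) (by simp; omega), Ideal.top_mul]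
    refine (minors_prod_le x y _).trans (Finset.sup_le fun p hp => ?_)
    rw [Finset.mem_range] at hp
    by_cases hpn : n < p
    · have : minors R x p = ⊥ := le_bot_iff.mp (minors_le fun z e _ => by
        rw [minor_eq_zero_of_not_injective z e fun he => by
          have := Fintype.card_le_of_injective e he
          simp at this; omega]
        exact zero_mem _)
      simp [this]
    by_cases hqn : n' < n + n' - l - p
    · have : minors R y (n + n' - l - p) = ⊥ := le_bot_iff.mp (minors_le fun z e _ => by
        rw [minor_eq_zero_of_not_injective z e fun he => by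
          have := Fintype.card_le_of_injective e he
          simp at this; omega]
        exact zero_mem _)
      simp [this]
    refine le_trans (le_of_eq ?_)
      (Finset.le_sup (f := fun k => Fitt.ideal R M k * Fitt.ideal R M' (l - k))
        (show n - p ∈ Finset.range (l + 1) by simp; omega))
    rw [ideal_eq_minors_fin x hx, ideal_eq_minors_fin y hy]
    congr 2 <;> omega
  · refine Finset.sup_le fun k hk => ?_
    rw [Finset.mem_range] at hk
    rw [ideal_eq_minors_fin x hx, ideal_eq_minors_fin y hy]
    exact (le_minors_prod x y _ _).trans (minors_antitone _ (by omega))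

end FittLib
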