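import Mathlib
import Groth.Agent.FittLib.Prod

/-!
# Fitting ideals, projectivity, projective dimension one
-/

universe u v w

namespace FittLib

variable {R : Type u} [CommRing R] {M : Type v} [AddCommGroup M] [Module R M]

lemma minor_single {m : ℕ} {ι : Type*} [DecidableEq ι] {e : Fin m → ι} (he : Function.Injective e)
    (w : Fin m → ι → R) (c : R) (h : ∀ p q, w p (e q) = if q = p then c else 0) :
    minor w e = c ^ m := by
  rw [minor, show (Matrix.of fun q p => w p (e q)) = Matrix.diagonal (fun _ => c) from ?_,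
    Matrix.det_diagonal]
  · simp
  · ext q p
    simp [h, Matrix.diagonal_apply]

lemma ideal_quotient_eq_top [Module.Finite R M] {k : ℕ} {a : R} (ha : a ∈ nonZeroDivisors R)
    (h : Fitt.ideal R M k = Ideal.span {a}) (N : Submodule R M)
    (hN : ∀ y : M, a • y = 0 → y ∈ N) : Fitt.ideal R (M ⧸ N) k = ⊤ := by
  classical
  obtain ⟨n, x, hx⟩ := exists_generators R M
  rw [ideal_eq_minors_fin x hx] at h
  have hx' : Submodule.span R (Set.range (N.mkQ ∘ x)) = ⊤ := by
    rw [Set.range_comp, Submodule.span_image, hx, Submodule.map_top, Submodule.range_mkQ]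
  rw [ideal_eq_minors_fin _ hx']
  by_contra hne
  obtain ⟨q, hq, hle⟩ := Ideal.exists_le_maximal _ hne
  have key : minors R x (n - k) ≤ q * Ideal.span {a} := by
    refine minors_le fun z e hz => ?_
    obtain ⟨c, hc⟩ := Ideal.mem_span_singleton'.mp (h ▸ minor_mem_minors hz e)
    rw [Ideal.mem_mul_span_singleton]
    refine ⟨c, ?_, hc⟩
    by_cases he : Function.Injective e
    swap
    · rw [minor_eq_zero_of_not_injective z e he] at hc
      rw [(mem_nonZeroDivisors_iff.mp ha).2 c hc]
      exact q.zero_mem
    choose b hb1 hb2 hb3 using exists_minor_smul_eq hz e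
    choose b' hb' using fun p i => Ideal.mem_span_singleton'.mp (h ▸ hb1 p i)
    let w : Fin (n - k) → Fin n → R := fun p i =>
      (if i = e p then c else 0) - (if i ∈ Set.range e then 0 else b' p i)
    refine hq.isPrime.mem_of_pow_mem (n - k) (hle ?_)
    rw [← minor_single (e := e) he w c (fun p q => by simp [w, he.eq_iff])]
    refine minor_mem_minors (fun p => ?_) e
    rw [mem_rel]
    simp only [Function.comp_apply, ← map_smul, ← map_sum]
    rw [Submodule.mkQ_apply, Submodule.Quotient.mk_eq_zero]
    refine hN _ ?_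
    have : ∀ i, a * w p i = (if i = e p then minor z e else 0) - b p i := fun i => by
      simp only [w, mul_sub]
      congr 1
      · split_ifs <;> simp [← hc, mul_comm]
      · split_ifs with hi
        · simp [hb2 p i hi]
        · rw [← hb', mul_comm]
    simp [Finset.smul_sum, smul_smul, this, sub_smul, Finset.sum_sub_distrib, hb3 p, ite_smul]
  obtain ⟨t, ht, hta⟩ := Ideal.mem_mul_span_singleton.mp
    (key (h.symm ▸ Ideal.mem_span_singleton_self a))
  have h1 : 1 - t = 0 := (mem_nonZeroDivisors_iff.mp ha).2 _ (by rw [sub_mul, one_mul, hta, sub_self])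
  exact hq.ne_top ((Ideal.eq_top_iff_one q).mpr (sub_eq_zero.mp h1 ▸ ht))

lemma ideal_quotient_ker_eq_bot [Module.Finite R M] {j : ℕ} {a : R} (ha : a ∈ nonZeroDivisors R)
    (h : Fitt.ideal R M j = ⊥) :
    Fitt.ideal R (M ⧸ LinearMap.ker (a • (LinearMap.id : M →ₗ[R] M))) j = ⊥ := by
  classical
  set N := LinearMap.ker (a • (LinearMap.id : M →ₗ[R] M))
  obtain ⟨n, x, hx⟩ := exists_generators R M
  rw [ideal_eq_minors_fin x hx] at h
  have hx' : Submodule.span R (Set.range (N.mkQ ∘ x)) = ⊤ := by
    rw [Set.range_comp, Submodule.span_image, hx, Submodule.map_top, Submodule.range_mkQ]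
  rw [ideal_eq_minors_fin _ hx']
  refine le_bot_iff.mp (minors_le fun z e hz => ?_)
  have hz' : ∀ p, (fun i => a * z p i) ∈ rel R x := fun p => by
    have := mem_rel.mp (hz p)
    simp only [Function.comp_apply, ← map_smul, ← map_sum] at this
    rw [Submodule.mkQ_apply, Submodule.Quotient.mk_eq_zero] at this
    rw [mem_rel]
    simpa [N, Finset.smul_sum, smul_smul, mul_comm] using this
  have := minor_mem_minors hz' e
  rw [h, Ideal.mem_bot] at this
  have h2 : minor (fun p i => a * z p i) e = a ^ (n - j) * minor z e := by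
    rw [minor, minor, show (Matrix.of fun q p => a * z p (e q)) = a • Matrix.of (fun q p => z p (e q))
      from rfl, Matrix.det_smul, Fintype.card_fin]
  rw [Ideal.mem_bot]
  exact (mem_nonZeroDivisors_iff.mp (pow_mem ha (n - j))).1 _ (h2 ▸ this)

/-- A module on which a family of scalars generating the unit ideal factors through finite free
modules is projective. -/
lemma projective_of_factors {K : Type v} [AddCommGroup K] [Module R K] (S : Set R)
    (hS : Ideal.span S = ⊤) (n : ℕ) (h : ∀ r ∈ S, ∃ (ψ : K →ₗ[R] (Fin n → R))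
      (χ : (Fin n → R) →ₗ[R] K), χ ∘ₗ ψ = r • LinearMap.id) : Module.Projective R K := by
  classical
  obtain ⟨t, s, g, hg⟩ := Submodule.mem_span_set'.mp (show (1 : R) ∈ Ideal.span S by rw [hS]; trivial)
  choose ψ χ hψ using fun i : Fin t => h (g i) (g i).2
  refine Module.Projective.of_split (M := Fin t → (Fin n → R)) (LinearMap.pi ψ)
    (∑ i, s i • (χ i ∘ₗ LinearMap.proj i)) (LinearMap.ext fun u => ?_)
  have : ∀ i, χ i (ψ i u) = (g i : R) • u := fun i => LinearMap.congr_fun (hψ i) u
  simp only [LinearMap.comp_apply, LinearMap.sum_apply, LinearMap.smul_apply, LinearMap.proj_apply,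
    LinearMap.pi_apply, this, smul_smul, LinearMap.id_apply, ← Finset.sum_smul]
  simp only [smul_eq_mul] at hg
  rw [hg, one_smul]

lemma projective_of_ideal [Module.Finite R M] {k : ℕ} (htop : Fitt.ideal R M k = ⊤)
    (hbot : k = 0 ∨ Fitt.ideal R M (k - 1) = ⊥) : Module.Projective R M := by
  classical
  obtain ⟨n, x, hx⟩ := exists_generators R M
  rw [ideal_eq_minors_fin x hx] at htop
  have hsucc : 0 < k → minors R x (n - k + 1) = ⊥ := fun hk => by
    rcases hbot with rfl | hbot
    · omega
    rw [ideal_eq_minors_fin x hx] at hbot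
    exact le_bot_iff.mp (hbot ▸ minors_antitone x (by omega))
  let π := Fintype.linearCombination R x
  have hπ : Function.Surjective π := by
    rw [← LinearMap.range_eq_top, Fintype.range_linearCombination, hx]
  let D : Set R := {d | ∃ (z : Fin (n - k) → Fin n → R) (e : Fin (n - k) → Fin n),
    (∀ j, z j ∈ rel R x) ∧ d = minor z e}
  have hD : Ideal.span ((fun d => d ^ 2) '' D) = ⊤ := by
    exact Ideal.span_pow_eq_top D htop 2
  refine projective_of_factors _ hD n ?_
  rintro _ ⟨d, ⟨z, e, hz, rfl⟩, rfl⟩
  by_cases he : Function.Injective e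
  swap
  · exact ⟨0, 0, by simp [minor_eq_zero_of_not_injective z e he]⟩
  let w : Fin (n - k) → Fin n → R := fun p i => minor z (Function.update e p i)
  have hw : ∀ p, w p ∈ rel R x := fun p => mem_rel.mpr (sum_minor_update hz e p)
  have hwe : ∀ p q, w p (e q) = if q = p then minor z e else 0 := fun p q => by
    rcases eq_or_ne q p with rfl | hne
    · simp [w, Function.update_eq_self]
    · rw [if_neg hne]
      exact minor_eq_zero_of_not_injective _ _ fun hinj => hne (hinj (by simp [hne]))
  let lam : (Fin n → R) →ₗ[R] (Fin n → R) :=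
    minor z e • LinearMap.id - ∑ p, (LinearMap.proj (e p)).smulRight (w p)
  have hlam : ∀ v, lam v = minor z e • v - ∑ p, v (e p) • w p := fun v => by simp [lam]
  have hker : LinearMap.ker π ≤ LinearMap.ker (minor z e • lam) := by
    intro u hu
    have hlu : lam u ∈ rel R x := by
      rw [hlam]
      exact sub_mem (Submodule.smul_mem _ _ hu)
        (Submodule.sum_mem _ fun p _ => Submodule.smul_mem _ _ (hw p))
    have hlue : ∀ q, lam u (e q) = 0 := fun q => by
      simp [hlam, Finset.sum_apply, hwe, mul_comm]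
    rw [LinearMap.mem_ker, LinearMap.smul_apply]
    funext o
    rw [Pi.smul_apply, Pi.zero_apply, smul_eq_mul]
    by_cases ho : o ∈ Set.range e
    · obtain ⟨q, rfl⟩ := ho
      rw [hlue, mul_zero]
    have hk : 0 < k := by
      by_contra hk
      refine ho ?_
      have hk0 : k = 0 := by omega
      subst hk0
      exact ((Fintype.bijective_iff_injective_and_card e).mpr ⟨he, by simp⟩).2 o
    have hrel : ∀ j, (Fin.cons (lam u) z : Fin (n - k + 1) → Fin n → R) j ∈ rel R x :=
      Fin.cases (by simpa using hlu) fun j => by simpa using hz j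
    have := minor_mem_minors hrel (Fin.cons o e)
    rw [hsucc hk, Ideal.mem_bot, minor, Matrix.det_succ_column _ 0, Fin.sum_univ_succ] at this
    have hsub : (Matrix.of fun a b : Fin (n - k + 1) =>
        (Fin.cons (lam u) z : Fin (n - k + 1) → Fin n → R) b
          ((Fin.cons o e : Fin (n - k + 1) → Fin n) a)).submatrix Fin.succ Fin.succ
        = Matrix.of fun a b => z b (e a) := by
      ext a b; simp
    simpa [hsub, hlue, minor, mul_comm] using this
  let ψ : M →ₗ[R] (Fin n → R) :=
    ((LinearMap.ker π).liftQ (minor z e • lam) hker) ∘ₗ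
      (π.quotKerEquivOfSurjective hπ).symm.toLinearMap
  refine ⟨ψ, π, LinearMap.ext fun y => ?_⟩
  obtain ⟨v, rfl⟩ := hπ y
  have h1 : ψ (π v) = minor z e • lam v := by
    have : (π.quotKerEquivOfSurjective hπ).symm (π v) = Submodule.Quotient.mk v := by
      rw [LinearEquiv.symm_apply_eq]; rfl
    simp [ψ, this]
  have h2 : π (lam v) = minor z e • π v := by
    have : ∀ p, π (w p) = 0 := fun p => hw p
    simp [hlam, this]
  simp [h1, h2, smul_smul, pow_two]

/-- For `Fit_0(T) = (f)` with `f` a nonzerodivisor, relation modules are projective. -/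
lemma projective_rel {n : ℕ} {x : Fin n → M} (hx : Submodule.span R (Set.range x) = ⊤) {f : R}
    (hf : f ∈ nonZeroDivisors R) (h : Fitt.ideal R M 0 = Ideal.span {f}) :
    Module.Projective R (rel R x) := by
  classical
  rw [ideal_eq_minors_fin x hx, Nat.sub_zero] at h
  let C : Set R := {c | ∃ (z : Fin n → Fin n → R) (e : Fin n → Fin n),
    (∀ j, z j ∈ rel R x) ∧ minor z e = c * f}
  have hC : Ideal.span C = ⊤ := by
    have h1 : minors R x n ≤ Ideal.span C * Ideal.span {f} := by
      refine minors_le fun z e hz => ?_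
      obtain ⟨c, hc⟩ := Ideal.mem_span_singleton'.mp (h ▸ minor_mem_minors hz e)
      exact Ideal.mem_mul_span_singleton.mpr ⟨c, Ideal.subset_span ⟨z, e, hz, hc.symm⟩, hc⟩
    obtain ⟨t, ht, htf⟩ := Ideal.mem_mul_span_singleton.mp
      (h1 (h.symm ▸ Ideal.mem_span_singleton_self f))
    have h1 : 1 - t = 0 := (mem_nonZeroDivisors_iff.mp hf).2 _ (by rw [sub_mul, one_mul, htf, sub_self])
    exact (Ideal.eq_top_iff_one _).mpr (sub_eq_zero.mp h1 ▸ ht)
  refine projective_of_factors C hC n ?_
  rintro c ⟨z, e, hz, hc⟩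
  by_cases he : Function.Injective e
  swap
  · rw [minor_eq_zero_of_not_injective z e he] at hc
    exact ⟨0, 0, by simp [(mem_nonZeroDivisors_iff.mp hf).2 c hc.symm]⟩
  let σ := Equiv.ofBijective e (Finite.injective_iff_bijective.mp he)
  let A : Matrix (Fin n) (Fin n) R := Matrix.of fun a b => z b a
  have hs' : A.det = ((Equiv.Perm.sign σ : ℤ) : R) * (c * f) := by
    rw [← hc, minor, show (Matrix.of fun a b => z b (e a)) = A.submatrix σ id from rfl,
      Matrix.det_permute, ← mul_assoc, ← Int.cast_mul, ← Units.val_mul, Int.units_mul_self]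
    simp
  let μ : (Fin n → R) →ₗ[R] (Fin n → R) := f • LinearMap.id
  have hμ : Function.Injective μ := fun u v huv => by
    funext i
    have := congrFun huv i
    simp only [μ, LinearMap.smul_apply, LinearMap.id_apply, Pi.smul_apply, smul_eq_mul] at this
    exact sub_eq_zero.mp ((mem_nonZeroDivisors_iff.mp hf).1 _ (by rw [mul_sub, this, sub_self]))
  let L : rel R x →ₗ[R] (Fin n → R) := (Matrix.cramer A) ∘ₗ (rel R x).subtype
  have hL : ∀ u, L u ∈ LinearMap.range μ := fun u => by
    have : ∀ p, ∃ b, b * f = L u p := fun p => by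
      refine Ideal.mem_span_singleton'.mp (h ▸ ?_)
      have hz' : ∀ j, Function.update z p (u : Fin n → R) j ∈ rel R x := fun j => by
        rcases eq_or_ne j p with rfl | hne
        · simp
        · rw [Function.update_of_ne hne]; exact hz j
      convert minor_mem_minors hz' id using 1
      simp only [L, LinearMap.comp_apply, Submodule.subtype_apply, Matrix.cramer_apply, minor]
      congr 1
      ext a b
      rcases eq_or_ne b p with rfl | hne
      · simp
      · simp [A, hne, Matrix.updateCol_ne]
    choose b hb using this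
    exact ⟨b, funext fun p => by simp [μ, ← hb p, mul_comm]⟩
  let ψ : rel R x →ₗ[R] (Fin n → R) :=
    (LinearEquiv.ofInjective μ hμ).symm.toLinearMap ∘ₗ L.codRestrict _ hL
  have hψ : ∀ u, f • ψ u = L u := fun u => by
    have := (LinearEquiv.ofInjective μ hμ).apply_symm_apply ⟨L u, hL u⟩
    exact congrArg Subtype.val this
  let χ : (Fin n → R) →ₗ[R] rel R x :=
    ((Equiv.Perm.sign σ : ℤ) : R) • (Fintype.linearCombination R fun b => (⟨z b, hz b⟩ : rel R x))
  refine ⟨ψ, χ, LinearMap.ext fun u => Subtype.ext (funext fun i => ?_)⟩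
  have hAu : A.mulVec (L u) i = A.det * (u : Fin n → R) i := by
    simp [L, Matrix.mulVec_cramer]
  rw [← hψ, Matrix.mulVec_smul, Pi.smul_apply, smul_eq_mul, hs'] at hAu
  have hε : ((Equiv.Perm.sign σ : ℤ) : R) * ((Equiv.Perm.sign σ : ℤ) : R) = 1 := by
    rw [← Int.cast_mul, ← Units.val_mul, Int.units_mul_self]; simp
  refine sub_eq_zero.mp ((mem_nonZeroDivisors_iff.mp hf).1 _ ?_)
  have hχ : ((χ (ψ u) : rel R x) : Fin n → R) i
      = ((Equiv.Perm.sign σ : ℤ) : R) * A.mulVec (ψ u) i := by
    simp [χ, Fintype.linearCombination_apply, A, Matrix.mulVec, dotProduct, Finset.sum_apply,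
      mul_comm]
  simp only [LinearMap.comp_apply, LinearMap.smul_apply, LinearMap.id_apply, SetLike.val_smul,
    Pi.smul_apply, smul_eq_mul, hχ, mul_sub]
  linear_combination ((Equiv.Perm.sign σ : ℤ) : R) * hAu + c * f * (u : Fin n → R) i * hε

end FittLib
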