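import Groth.Agent.FittLib.Proj
import Groth.Prelude.Def_FlatCA

/-!
# Fitting ideals of quotients by power torsion
-/

set_option autoImplicit false

universe u

namespace FittLib

theorem ideal_quotient_powTorsion_eq_bot {A : Type u} [CommRing A] {M : Type u} [AddCommGroup M]
    [Module A M] [Module.Finite A M] {a : A} (ha : a ∈ nonZeroDivisors A) {j : ℕ}
    (h : Fitt.ideal A M j = ⊥) : Fitt.ideal A (M ⧸ FlatCA.powTorsion A a M) j = ⊥ := by
  obtain ⟨n, x, hx⟩ := exists_generators A M
  set N := FlatCA.powTorsion A a M with hN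
  have hx' : Submodule.span A (Set.range (N.mkQ ∘ x)) = ⊤ := by
    rw [Set.range_comp, Submodule.span_image, hx, Submodule.map_top, Submodule.range_mkQ]
  rw [ideal_eq_minors_fin x hx] at h
  rw [ideal_eq_minors_fin _ hx']
  refine le_bot_iff.mp (minors_le fun z e' hz => ?_)
  have hpow : ∀ p, ∃ t : ℕ, (fun i => a ^ t * z p i) ∈ rel A x := fun p => by
    have hp := mem_rel.mp (hz p)
    simp only [Function.comp_apply, ← map_smul, ← map_sum] at hp
    rw [Submodule.mkQ_apply, Submodule.Quotient.mk_eq_zero, hN, FlatCA.powTorsion,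
      Submodule.mem_iSup_of_directed] at hp
    · obtain ⟨t, ht⟩ := hp
      refine ⟨t, mem_rel.mpr ?_⟩
      rw [Submodule.mem_torsionBy_iff, Finset.smul_sum] at ht
      simpa [mul_smul] using ht
    · refine Monotone.directed_le fun s t hst y hy => ?_
      rw [Submodule.mem_torsionBy_iff] at hy ⊢
      obtain ⟨d, rfl⟩ := Nat.exists_eq_add_of_le hst
      rw [add_comm, pow_add, mul_smul, hy, smul_zero]
  choose t ht using hpow
  have := minor_mem_minors ht e'
  rw [h, Ideal.mem_bot] at this
  have h2 : minor (fun p i => a ^ t p * z p i) e' = (∏ p, a ^ t p) * minor z e' := by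
    rw [minor, minor, ← Matrix.det_mul_row]
    rfl
  rw [Ideal.mem_bot]
  exact (mem_nonZeroDivisors_iff.mp (prod_mem fun p _ => pow_mem ha _)).1 _ (h2 ▸ this)

end FittLib
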