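import Groth.Agent.FittLib.Comap
import Groth.Agent.FittLib.Proj
import Groth.Agent.FittLib.Torsion
import Groth.Agent.QC.Closure
import Groth.Agent.QC.IdealMod
import Groth.Prelude.Def_BlowUp2

/-!
# Strict transforms along blow-ups in Fitting ideals
-/

set_option autoImplicit false
set_option backward.isDefEq.respectTransparency false

universe u

open CategoryTheory CategoryTheory.Limits AlgebraicGeometry TopologicalSpace Opposite Groth.Agent.QC

namespace FittLib

variable {X : Scheme.{u}}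

/-- `a` is a non zero divisor generating `E` on `V`. -/
def IsEquation (E : X.IdealSheafData) (V : X.affineOpens) (a : Γ(X, V.1)) : Prop :=
  a ∈ nonZeroDivisors Γ(X, V.1) ∧ E.ideal V = Ideal.span {a}

lemma IsEquation.basicOpen {E : X.IdealSheafData} {V : X.affineOpens} {a : Γ(X, V.1)}
    (h : IsEquation E V a) (g : Γ(X, V.1)) :
    IsEquation E (X.affineBasicOpen g) (resO X (X.basicOpen_le g) a) := by
  letI : Algebra Γ(X, V.1) Γ(X, X.basicOpen g) := (resO X (X.basicOpen_le g)).toAlgebra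
  haveI := V.2.isLocalization_basicOpen g
  refine ⟨mem_nonZeroDivisors_iff_right.mpr ?_, ?_⟩
  · show ∀ y : Γ(X, X.basicOpen g), y * resO X (X.basicOpen_le g) a = 0 → y = 0
    intro y hy
    obtain ⟨c, s, rfl⟩ := IsLocalization.exists_mk'_eq (Submonoid.powers g) y
    have h2 : IsLocalization.mk' Γ(X, X.basicOpen g) c s * algebraMap _ _ a = 0 := hy
    have h1 : algebraMap Γ(X, V.1) Γ(X, X.basicOpen g) (c * a) = 0 := by
      rw [map_mul, ← IsLocalization.mk'_spec Γ(X, X.basicOpen g) c s, mul_right_comm, h2, zero_mul]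
    rw [IsLocalization.map_eq_zero_iff (Submonoid.powers g)] at h1
    obtain ⟨t, ht⟩ := h1
    exact (IsLocalization.mk'_eq_zero_iff c s).mpr
      ⟨t, (mem_nonZeroDivisors_iff_right.mp h.1) _ (by rw [mul_assoc]; exact ht)⟩
  · rw [← E.map_ideal_basicOpen V g, h.2, Ideal.map_span, Set.image_singleton]
    rfl

lemma exists_equation {E : X.IdealSheafData} (hE : BlowUp.IsEffCartierIdeal E) (O : X.Opens) {x : X}
    (hx : x ∈ O) : ∃ (V : X.affineOpens) (a : Γ(X, V.1)), x ∈ V.1 ∧ V.1 ≤ O ∧ IsEquation E V a := by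
  obtain ⟨W, hxW, a, ha, hW⟩ := hE x
  obtain ⟨g, hg, hxg⟩ := W.2.exists_basicOpen_le (⟨_, hx⟩ : O) hxW
  exact ⟨X.affineBasicOpen g, _, hxg, hg, IsEquation.basicOpen ⟨ha, hW⟩ g⟩

lemma killed_iff {E : X.IdealSheafData} {V : X.affineOpens} {a : Γ(X, V.1)} (h : IsEquation E V a)
    (M : X.Modules) (m : Γ(M, V.1)) :
    BlowUp.KilledByPowerNear E M V m ↔ ∃ n : ℕ, a ^ n • m = 0 := by
  have e : ∀ n : ℕ, (E ^ n).ideal V = Ideal.span {a ^ n} := fun n => by
    rw [Scheme.IdealSheafData.ideal_pow, Pi.pow_apply, h.2, Ideal.span_singleton_pow]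
  refine exists_congr fun n => ⟨fun H => H _ (by rw [e]; exact Ideal.mem_span_singleton_self _),
    fun H c hc => ?_⟩
  rw [e, Ideal.mem_span_singleton'] at hc
  obtain ⟨d, rfl⟩ := hc
  rw [mul_smul, H, smul_zero]

variable {S : Scheme.{u}} (b : X ⟶ S) (I : S.IdealSheafData) (F : S.Modules) (G : X.Modules)
  (π : (Scheme.Modules.pullback b).obj F ⟶ G)

lemma isQCoh_strictTransform (hF : Coh.IsQCoh F) (hE : BlowUp.IsEffCartierIdeal (I.comap b))
    (hG : BlowUp.IsStrictTransform b I F G π) : Coh.IsQCoh G := by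
  haveI : Epi π := hG.1
  haveI : F.IsQuasicoherent := hF
  have hP : Coh.IsQCoh ((Scheme.Modules.pullback b).obj F) := isQCoh_pullback b hF
  have hK : Coh.IsQCoh (kernel π) := by
    refine isQCoh_of_isLoc fun x => ?_
    obtain ⟨V, a, hxV, -, hV⟩ := exists_equation hE ⊤ (x := x) trivial
    have hloc := isLoc_of_isQCoh (M := (Scheme.Modules.pullback b).obj F) V.2 (hM := hP)
    refine ⟨V.1, V.2, hxV, ⟨fun g t => ?_, fun g s hs => ?_⟩⟩
    · set t' := (kernel.ι π).app (X.basicOpen g) t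
      have ht' : π.app (X.basicOpen g) t' = 0 := (mem_range_kernel_app π _ t').mp ⟨t, rfl⟩
      obtain ⟨n, s, hs⟩ := hloc.exists_extend g t'
      obtain ⟨N, hN⟩ := (killed_iff (hV.basicOpen g) _ _).mp ((hG.2 (X.affineBasicOpen g) t').mp ht')
      have h0 : res _ (X.basicOpen_le g) (a ^ N • s) = 0 := by
        rw [res_smul, hs, map_pow, smul_comm]
        exact (congrArg _ hN).trans (smul_zero _)
      obtain ⟨m, hm⟩ := hloc.exists_pow_smul_eq_zero g _ h0
      have h1 : π.app V.1 (g ^ m • s) = 0 :=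
        (hG.2 V _).mpr ((killed_iff hV _ _).mpr ⟨N, by rw [smul_comm]; exact hm⟩)
      obtain ⟨s', hs'⟩ := (mem_range_kernel_app π _ _).mpr h1
      refine ⟨m + n, s', app_injective_of_mono (kernel.ι π) _ ?_⟩
      rw [← app_res, hs', res_smul, hs, map_pow, pow_add, mul_smul, Scheme.Modules.Hom.app_smul,
        Scheme.Modules.Hom.app_smul]
    · have h0 : res _ (X.basicOpen_le g) ((kernel.ι π).app V.1 s) = 0 := by
        rw [app_res, hs, map_zero]
      obtain ⟨n, hn⟩ := hloc.exists_pow_smul_eq_zero g _ h0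
      exact ⟨n, app_injective_of_mono (kernel.ι π) _ (by
        rw [Scheme.Modules.Hom.app_smul, hn, map_zero])⟩
  exact isQCoh_of_iso ((cokernelIsCokernel (kernel.ι π)).coconePointUniqueUpToIso
    (Abelian.epiIsCokernelOfKernel _ (limit.isLimit _))) (isQCoh_cokernel hK hP _)

lemma exists_chart (hF : Coh.IsQCoh F) (hft : CohB1.IsFT F) (hE : BlowUp.IsEffCartierIdeal (I.comap b))
    (hG : BlowUp.IsStrictTransform b I F G π) (x : X) :
    ∃ (V : X.affineOpens) (a : Γ(X, V.1)) (U : S.Opens) (hU : IsAffineOpen U) (hVU : V.1 ≤ b ⁻¹ᵁ U),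
      x ∈ V.1 ∧ IsEquation (I.comap b) V a ∧
      (I.ideal ⟨U, hU⟩).map (b.appLE U V.1 hVU).hom = Ideal.span {a} ∧
      Module.Finite Γ(X, V.1) Γ((Scheme.Modules.pullback b).obj F, V.1) ∧
      Nonempty (Γ(G, V.1) ≃ₗ[Γ(X, V.1)]
        (Γ((Scheme.Modules.pullback b).obj F, V.1) ⧸
          FlatCA.powTorsion Γ(X, V.1) a Γ((Scheme.Modules.pullback b).obj F, V.1))) := by
  haveI : Epi π := hG.1
  haveI : F.IsQuasicoherent := hF
  have hP : Coh.IsQCoh ((Scheme.Modules.pullback b).obj F) := isQCoh_pullback b hF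
  obtain ⟨U, hU, hxU⟩ := exists_affine_mem (b x)
  obtain ⟨V, a, hxV, hVU, hV⟩ := exists_equation hE (b ⁻¹ᵁ U) (x := x) hxU
  refine ⟨V, a, U, hU, hVU, hxV, hV, (comap_ideal b I hU V.2 hVU).symm.trans hV.2,
    finite_sections V.2 (hM := hP) (isCoh_pullback b (M := F) ⟨hF, hft⟩).2, ?_⟩
  let L : Γ((Scheme.Modules.pullback b).obj F, V.1) →ₗ[Γ(X, V.1)] Γ(G, V.1) :=
    { toFun := π.app V.1
      map_add' := map_add _
      map_smul' := fun r y => π.app_smul r y }
  have hker : LinearMap.ker L = FlatCA.powTorsion Γ(X, V.1) a _ := by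
    ext m
    rw [LinearMap.mem_ker, show L m = π.app V.1 m from rfl, hG.2 V m, killed_iff hV,
      FlatCA.powTorsion, Submodule.mem_iSup_of_directed]
    · simp [Submodule.mem_torsionBy_iff]
    · refine Monotone.directed_le fun s t hst y hy => ?_
      rw [Submodule.mem_torsionBy_iff] at hy ⊢
      obtain ⟨d, rfl⟩ := Nat.exists_eq_add_of_le hst
      rw [add_comm, pow_add, mul_smul, hy, smul_zero]
  exact ⟨((L.quotKerEquivOfSurjective
    (app_surjective_of_epi V.2 hP (isQCoh_strictTransform b I F G π hF hE hG) π)).symm.trans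
    (Submodule.quotEquivOfEq _ _ hker))⟩

theorem sheafIdeal_strictTransform_eq_top (hF : Coh.IsQCoh F) (hft : CohB1.IsFT F) {k j : ℕ}
    (hE : BlowUp.IsEffCartierIdeal ((Fitt.sheafIdeal F k).comap b))
    (hG : BlowUp.IsStrictTransform b (Fitt.sheafIdeal F k) F G π) (hkj : k ≤ j) :
    Fitt.sheafIdeal G j = ⊤ := by
  have hGq := isQCoh_strictTransform b _ F G π hF hE hG
  haveI : Epi π := hG.1
  have hGf : CohB1.IsFT G := isFT_of_epi π (isCoh_pullback b (M := F) ⟨hF, hft⟩).2
  choose V a U hU hVU hxV hV hI hfin hiso using exists_chart b _ F G π hF hft hE hG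
  refine Scheme.IdealSheafData.ext_of_iSup_eq_top V
    (eq_top_iff.mpr fun x _ => Opens.mem_iSup.mpr ⟨x, hxV x⟩) fun x => ?_
  haveI := hfin x
  obtain ⟨e⟩ := hiso x
  rw [sheafIdeal_ideal hGq hGf, Scheme.IdealSheafData.ideal_top, Pi.top_apply,
    ← ideal_congr e.symm]
  have h0 := ideal_pullback b hF hft (hU x) (V x).2 (hVU x) k
  have h1 := hI x
  rw [sheafIdeal_ideal hF hft] at h1
  have htop : Fitt.ideal Γ(X, (V x).1) (Γ((Scheme.Modules.pullback b).obj F, (V x).1) ⧸
      FlatCA.powTorsion Γ(X, (V x).1) (a x) Γ((Scheme.Modules.pullback b).obj F, (V x).1)) k = ⊤ :=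
    ideal_quotient_eq_top (hV x).1 (h0.trans h1) _ fun y hy =>
      Submodule.mem_iSup_of_mem 1 (by simpa [Submodule.mem_torsionBy_iff] using hy)
  obtain ⟨n', y, hy⟩ := exists_generators Γ(X, (V x).1)
    (Γ((Scheme.Modules.pullback b).obj F, (V x).1) ⧸
      FlatCA.powTorsion Γ(X, (V x).1) (a x) Γ((Scheme.Modules.pullback b).obj F, (V x).1))
  rw [ideal_eq_minors_fin y hy] at htop ⊢
  exact top_le_iff.mp (htop ▸ minors_antitone y (by omega))

lemma ideal_basicOpen_eq_bot {E J : X.IdealSheafData} {V : X.affineOpens} {a : Γ(X, V.1)}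
    (h : IsEquation E V a) (hJ : J.comap (X.affineBasicOpen a).2.fromSpec = ⊥) : J.ideal V = ⊥ := by
  have h0 : J.ideal (X.affineBasicOpen a) = ⊥ := by
    refine idealSpec_injective _ ?_
    rw [← comap_fromSpec J (X.affineBasicOpen a).2, hJ,
      ← Scheme.IdealSheafData.comap_bot (X.affineBasicOpen a).2.fromSpec,
      comap_fromSpec ⊥ (X.affineBasicOpen a).2, Scheme.IdealSheafData.ideal_bot]
    rfl
  rw [← J.map_ideal_basicOpen V a, Ideal.map_eq_bot_iff_le_ker] at h0
  refine le_bot_iff.mp fun c hc => ?_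
  letI : Algebra Γ(X, V.1) Γ(X, X.basicOpen a) := (resO X (X.basicOpen_le a)).toAlgebra
  haveI := V.2.isLocalization_basicOpen a
  have h1 : algebraMap Γ(X, V.1) Γ(X, X.basicOpen a) c = 0 := h0 hc
  rw [IsLocalization.map_eq_zero_iff (Submonoid.powers a)] at h1
  obtain ⟨⟨_, n, rfl⟩, hn⟩ := h1
  exact Ideal.mem_bot.mpr ((mem_nonZeroDivisors_iff.mp (pow_mem h.1 n)).1 c hn)

theorem sheafIdeal_strictTransform_eq_bot (hF : Coh.IsQCoh F) (hft : CohB1.IsFT F) {j : ℕ}
    (O : S.Opens) (hO : (O : Set S) ⊇ (I.support : Set S)ᶜ)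
    (hbot : (Fitt.sheafIdeal F j).comap O.ι = ⊥)
    (hE : BlowUp.IsEffCartierIdeal (I.comap b))
    (hG : BlowUp.IsStrictTransform b I F G π) :
    Fitt.sheafIdeal G j = ⊥ := by
  have hGq := isQCoh_strictTransform b _ F G π hF hE hG
  haveI : Epi π := hG.1
  have hP := isCoh_pullback b (M := F) ⟨hF, hft⟩
  have hGf : CohB1.IsFT G := isFT_of_epi π hP.2
  choose V a U hU hVU hxV hV hI hfin hiso using exists_chart b _ F G π hF hft hE hG
  refine Scheme.IdealSheafData.ext_of_iSup_eq_top V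
    (eq_top_iff.mpr fun x _ => Opens.mem_iSup.mpr ⟨x, hxV x⟩) fun x => ?_
  haveI := hfin x
  obtain ⟨e⟩ := hiso x
  rw [sheafIdeal_ideal hGq hGf, Scheme.IdealSheafData.ideal_bot, Pi.bot_apply,
    ← ideal_congr e.symm]
  refine ideal_quotient_powTorsion_eq_bot (hV x).1 ?_
  rw [← sheafIdeal_ideal hP.1 hP.2, ← sheafIdeal_comap b hF hft hP.1 hP.2]
  refine ideal_basicOpen_eq_bot (hV x) ?_
  let d := (X.affineBasicOpen (a x)).2.fromSpec
  have hd : Set.range (d ≫ b) ⊆ Set.range O.ι := by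
    rw [Scheme.Opens.range_ι]
    rintro _ ⟨z, rfl⟩
    refine hO fun hz => ?_
    have hzD : d z ∈ X.basicOpen (a x) :=
      (X.affineBasicOpen (a x)).2.range_fromSpec.subset ⟨z, rfl⟩
    have hzE : d z ∈ (I.comap b).support := by
      rw [Scheme.IdealSheafData.support_comap]
      exact hz
    rw [mem_support_iff _ (V x) (X.basicOpen_le _ hzD), (hV x).2,
      Ideal.span_singleton_le_iff_mem] at hzE
    have hm : (V x).2.primeIdealOf ⟨d z, X.basicOpen_le _ hzD⟩ ∈
        (V x).2.fromSpec ⁻¹ᵁ X.basicOpen (a x) := by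
      show (V x).2.fromSpec _ ∈ X.basicOpen (a x)
      rw [(V x).2.fromSpec_primeIdealOf]
      exact hzD
    rw [(V x).2.fromSpec_preimage_basicOpen] at hm
    exact hm hzE
  rw [← Scheme.IdealSheafData.comap_comp, ← IsOpenImmersion.lift_fac O.ι (d ≫ b) hd,
    Scheme.IdealSheafData.comap_comp, hbot, Scheme.IdealSheafData.comap_bot]

lemma sheafIdeal_congr {F F' : S.Modules} (e : F ≅ F') (hF : Coh.IsQCoh F) (hft : CohB1.IsFT F) (j : ℕ) :
    Fitt.sheafIdeal F j = Fitt.sheafIdeal F' j := by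
  have hF' : Coh.IsQCoh F' := isQCoh_of_iso e hF
  have hft' : CohB1.IsFT F' := isFT_of_epi e.hom hft
  refine Scheme.IdealSheafData.ext (funext fun U => ?_)
  haveI : Module.Finite Γ(S, U.1) Γ(F, U.1) := finite_sections U.2 (hM := hF) hft
  rw [sheafIdeal_ideal hF hft, sheafIdeal_ideal hF' hft']
  exact ideal_congr
    { toFun := e.hom.app U.1
      invFun := e.inv.app U.1
      map_add' := map_add _
      map_smul' := fun r y => e.hom.app_smul r y
      left_inv := fun y => by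
        change (e.hom ≫ e.inv).app U.1 y = y
        rw [e.hom_inv_id]
        rfl
      right_inv := fun y => by
        change (e.inv ≫ e.hom).app U.1 y = y
        rw [e.inv_hom_id]
        rfl } j

/-- The Fitting ideals of a restriction to an open. -/
theorem sheafIdeal_restrict (hF : Coh.IsQCoh F) (hft : CohB1.IsFT F) (O : S.Opens) (j : ℕ) :
    Fitt.sheafIdeal (F.restrict O.ι) j = (Fitt.sheafIdeal F j).comap O.ι := by
  have hP := isCoh_pullback O.ι (M := F) ⟨hF, hft⟩
  rw [sheafIdeal_comap O.ι hF hft hP.1 hP.2]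
  exact sheafIdeal_congr ((Scheme.Modules.restrictFunctorIsoPullback O.ι).app F)
    (isQCoh_restrict _ hF) (isFT_restrict _ hft) j

end FittLib
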