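import Mathlib
import Groth.Agent.FittLib.Matrix
import Groth.Agent.FSField.Basic

/-!
# Fitting ideals of differentials and of `T¹` for complete intersections
-/

set_option autoImplicit false
set_option backward.isDefEq.respectTransparency false

universe u

open CategoryTheory CategoryTheory.Abelian CategoryTheory.Limits TensorProduct

namespace FittLib

variable {B : Type u} [CommRing B]

lemma rel_single_eq {M : Type*} [AddCommGroup M] [Module B M] {r : ℕ} (π : (Fin r → B) →ₗ[B] M) :
    rel B (fun i => π (Pi.single i 1)) = LinearMap.ker π := by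
  ext z
  rw [mem_rel, LinearMap.mem_ker]
  have : ∑ i, z i • π (Pi.single i 1) = π z := by
    simp only [← map_smul, ← map_sum]
    exact congrArg π (by ext j; simp [Pi.single_apply])
  rw [this]

lemma span_single_eq_top {M : Type*} [AddCommGroup M] [Module B M] {r : ℕ} (π : (Fin r → B) →ₗ[B] M)
    (hπ : Function.Surjective π) :
    Submodule.span B (Set.range fun i => π (Pi.single i 1)) = ⊤ := by
  rw [eq_top_iff]
  rintro q -
  obtain ⟨z, rfl⟩ := hπ q
  rw [show π z = ∑ i, z i • π (Pi.single i 1) by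
    simp only [← map_smul, ← map_sum]
    exact congrArg π (by ext j; simp [Pi.single_apply])]
  exact Submodule.sum_mem _ fun i _ => Submodule.smul_mem _ _ (Submodule.subset_span ⟨i, rfl⟩)

/-- For a two step free resolution the `(r - c)`-th Fitting ideal is the `0`-th one of `Ext¹`. -/
theorem ideal_eq_ideal_ext_one {M : Type u} [AddCommGroup M] [Module B M] {r c : ℕ}
    (J : (Fin c → B) →ₗ[B] (Fin r → B)) (π : (Fin r → B) →ₗ[B] M) (hJ : Function.Injective J)
    (hπ : Function.Surjective π) (hex : Function.Exact J π) :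
    Fitt.ideal B M (r - c) =
      Fitt.ideal B (Ext.{u} (ModuleCat.of B M) (ModuleCat.of B B) 1) 0 := by
  rcases subsingleton_or_nontrivial B with hB | hB
  · exact Subsingleton.elim _ _
  have hcr : c ≤ r := by
    have := LinearMap.finrank_le_finrank_of_injective hJ
    simpa using this
  let S : ShortComplex (ModuleCat.{u} B) := ShortComplex.mk (ModuleCat.ofHom J) (ModuleCat.ofHom π)
    (by ext z; exact hex.apply_apply_eq_zero _)
  have hS : S.ShortExact :=
    { exact := by
        rw [ShortComplex.moduleCat_exact_iff]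
        exact fun z hz => (hex z).1 hz
      mono_f := (ModuleCat.mono_iff_injective _).2 hJ
      epi_g := (ModuleCat.epi_iff_surjective _).2 hπ }
  let Y := ModuleCat.of B B
  let δ : ((Fin c → B) →ₗ[B] B) →ₗ[B] Ext.{u} S.X₃ Y 1 :=
    { toFun := fun f => hS.extClass.comp (Ext.mk₀ (ModuleCat.ofHom f : S.X₁ ⟶ Y)) (add_zero 1)
      map_add' := fun f g => by
        rw [ModuleCat.ofHom_add, Ext.mk₀_add, Ext.comp_add]
      map_smul' := fun t f => by
        rw [show (ModuleCat.ofHom (t • f) : S.X₁ ⟶ Y) = t • (ModuleCat.ofHom f) from rfl,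
          Ext.mk₀_smul, Ext.comp_smul]
        rfl }
  have hδ : Function.Surjective δ := by
    haveI : Module.Projective B (S.X₂ : ModuleCat.{u} B) :=
      inferInstanceAs (Module.Projective B (Fin r → B))
    intro x
    obtain ⟨x₁, hx₁⟩ := Ext.contravariant_sequence_exact₃ hS Y x (Ext.eq_zero_of_projective _)
      (show 1 + 0 = 1 from rfl)
    obtain ⟨f, rfl⟩ := (Ext.mk₀_bijective S.X₁ Y).2 x₁
    exact ⟨f.hom, hx₁⟩
  have hkerδ : ∀ f, δ f = 0 ↔ ∃ g : (Fin r → B) →ₗ[B] B, g.comp J = f := by
    intro f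
    constructor
    · intro hf
      obtain ⟨x₂, hx₂⟩ := Ext.contravariant_sequence_exact₁ hS Y
        (Ext.mk₀ (ModuleCat.ofHom f : S.X₁ ⟶ Y)) (show 1 + 0 = 1 from rfl) hf
      obtain ⟨g, rfl⟩ := (Ext.mk₀_bijective S.X₂ Y).2 x₂
      rw [Ext.mk₀_comp_mk₀] at hx₂
      exact ⟨g.hom, congrArg ModuleCat.Hom.hom ((Ext.mk₀_bijective S.X₁ Y).1 hx₂)⟩
    · rintro ⟨g, rfl⟩
      show hS.extClass.comp (Ext.mk₀ (S.f ≫ (ModuleCat.ofHom g : S.X₂ ⟶ Y))) (show 1 + 0 = 1 from rfl) = 0
      rw [← Ext.mk₀_comp_mk₀, ← Ext.comp_assoc _ _ _ (add_zero 1) (add_zero 0) (by simp),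
        ShortComplex.ShortExact.extClass_comp, Ext.zero_comp]
  let ρ : (Fin c → B) →ₗ[B] Ext.{u} S.X₃ Y 1 :=
    δ.comp (Fintype.linearCombination B (fun j => (LinearMap.proj j : (Fin c → B) →ₗ[B] B)))
  have hlc : ∀ (f : (Fin c → B) →ₗ[B] B),
      Fintype.linearCombination B (fun j => (LinearMap.proj j : (Fin c → B) →ₗ[B] B))
        (fun j => f (Pi.single j 1)) = f := by
    intro f
    apply LinearMap.pi_ext'
    intro j
    ext
    simp [Fintype.linearCombination_apply, Pi.single_apply]
  have hρ : Function.Surjective ρ := fun x => by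
    obtain ⟨f, rfl⟩ := hδ x
    exact ⟨_, congrArg δ (hlc f)⟩
  let V : Fin r → Fin c → B := fun i j => J (Pi.single j 1) i
  have hkerρ : LinearMap.ker ρ = Submodule.span B (Set.range V) := by
    apply le_antisymm
    · intro z hz
      obtain ⟨g, hg⟩ := (hkerδ _).1 hz
      have hz' : z = ∑ i, g (Pi.single i 1) • V i := by
        ext j
        have h1 := congrArg (fun h : (Fin c → B) →ₗ[B] B => h (Pi.single j 1)) hg
        simp [Fintype.linearCombination_apply, Pi.single_apply] at h1
        rw [Finset.sum_apply, ← h1]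
        conv_lhs => rw [show J (Pi.single j 1) = ∑ i, J (Pi.single j 1) i • (Pi.single i 1 : Fin r → B) by
          ext k; simp [Pi.single_apply]]
        rw [map_sum]
        exact Finset.sum_congr rfl fun i _ => by
          rw [map_smul, smul_eq_mul, Pi.smul_apply, smul_eq_mul, mul_comm]
      rw [hz']
      exact Submodule.sum_mem _ fun i _ => Submodule.smul_mem _ _ (Submodule.subset_span ⟨i, rfl⟩)
    · rw [Submodule.span_le]
      rintro _ ⟨i, rfl⟩
      refine (hkerδ _).2 ⟨LinearMap.proj i, ?_⟩
      apply LinearMap.pi_ext'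
      intro j
      ext
      simp [Fintype.linearCombination_apply, Pi.single_apply, V]
  haveI : Module.Finite B M := Module.Finite.of_surjective π hπ
  haveI : Module.Finite B (Ext.{u} S.X₃ Y 1) := Module.Finite.of_surjective ρ hρ
  show _ = Fitt.ideal B (Ext.{u} S.X₃ Y 1) 0
  rw [ideal_eq_minors_fin _ (span_single_eq_top π hπ), ideal_eq_minors_fin _ (span_single_eq_top ρ hρ),
    minors_eq_span_det _ V ((rel_single_eq ρ).trans hkerρ),
    minors_eq_span_det _ (fun j => J (Pi.single j 1)) (by
      rw [rel_single_eq, LinearMap.exact_iff.1 hex]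
      apply le_antisymm
      · rintro _ ⟨z, rfl⟩
        rw [show z = ∑ j, z j • (Pi.single j 1 : Fin c → B) by ext k; simp [Pi.single_apply], map_sum]
        exact Submodule.sum_mem _ fun j _ => by
          rw [map_smul]
          exact Submodule.smul_mem _ _ (Submodule.subset_span ⟨j, rfl⟩)
      · rw [Submodule.span_le]
        rintro _ ⟨j, rfl⟩
        exact ⟨_, rfl⟩)]
  rw [show r - (r - c) = c by omega, Nat.sub_zero]
  congr 1
  ext d
  constructor
  · rintro ⟨f, e, rfl⟩
    exact ⟨e, f, (Matrix.det_transpose _).symm⟩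
  · rintro ⟨f, e, rfl⟩
    exact ⟨e, f, (Matrix.det_transpose _).symm⟩

/-- The conormal map of a reduced algebra over a perfect field is injective when the conormal module
is free on the given generators. -/
theorem eq_zero_of_conormal {k : Type u} [Field k] [PerfectField k] [Algebra k B] [IsReduced B]
    {σ : Type*} [Fintype σ] {c : ℕ} (P : Algebra.Generators k B σ) (a : Fin c → P.Ring)
    (ha : ∀ j, a j ∈ P.ker)
    (hli : ∀ g : Fin c → P.Ring, ∑ j, g j * a j ∈ P.ker ^ 2 → ∀ j, g j ∈ P.ker)
    (g : Fin c → P.Ring) (hg : ∀ i, MvPolynomial.aeval P.val (MvPolynomial.pderiv i (∑ j, g j * a j)) = 0)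
    (j : Fin c) : MvPolynomial.aeval P.val (g j) = 0 := by
  have hx : ∑ j, g j * a j ∈ P.ker := Submodule.sum_mem _ fun j _ => Ideal.mul_mem_left _ _ (ha j)
  let x : P.toExtension.Cotangent := Algebra.Extension.Cotangent.mk ⟨_, hx⟩
  have hx0 : P.toExtension.cotangentComplex x = 0 := by
    apply P.cotangentSpaceBasis.repr.injective
    rw [map_zero]
    ext i
    rw [Algebra.Extension.cotangentComplex_mk]
    exact (P.cotangentSpaceBasis_repr_one_tmul _ _).trans (hg i)
  let h : P.toExtension.H1Cotangent := ⟨x, hx0⟩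
  refine IsReduced.eq_zero _ ?_
  rw [← mem_nilradical, nilradical_eq_sInf]
  refine Ideal.mem_sInf.2 fun {I} hI => ?_
  haveI : I.IsPrime := hI
  obtain ⟨q, hq, hqI⟩ := Ideal.exists_minimalPrimes_le (I := ⊥) (J := I) bot_le
  refine hqI ?_
  haveI := hq.1.1
  haveI : Ring.KrullDimLE 0 (Localization.AtPrime q) := .of_isLocalization _ hq _
  letI : Field (Localization.AtPrime q) := Ring.KrullDimLE.isField_of_isReduced.toField
  haveI : Algebra.FormallySmooth k (Localization.AtPrime q) :=
    Groth.Agent.FSField.formallySmooth_of_perfectField k (Localization.AtPrime q)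
  haveI : Subsingleton (Algebra.H1Cotangent k (Localization.AtPrime q)) :=
    Algebra.FormallySmooth.subsingleton_h1Cotangent
  have h1 : (1 : Localization.AtPrime q) ⊗ₜ[B] P.equivH1Cotangent h = 0 :=
    (Algebra.tensorH1CotangentOfIsLocalization k (Localization.AtPrime q) q.primeCompl).injective
      (Subsingleton.elim _ _)
  obtain ⟨t, ht⟩ : ∃ t : q.primeCompl, t • P.equivH1Cotangent h = 0 := by
    have hl : IsLocalizedModule q.primeCompl
        (TensorProduct.mk B (Localization.AtPrime q) (Algebra.H1Cotangent k B) 1) := inferInstance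
    exact (IsLocalizedModule.eq_zero_iff q.primeCompl
      (TensorProduct.mk B (Localization.AtPrime q) (Algebra.H1Cotangent k B) 1)).1 h1
  have ht' : (t : B) • x = 0 := by
    have h2 : P.equivH1Cotangent ((t : B) • h) = 0 := by rw [map_smul]; exact ht
    exact congrArg Subtype.val (P.equivH1Cotangent.map_eq_zero_iff.1 h2)
  obtain ⟨t', ht''⟩ := P.algebraMap_surjective (t : B)
  have h3 : Algebra.Extension.Cotangent.mk (P := P.toExtension) ⟨∑ j, (t' * g j) * a j,
      Submodule.sum_mem _ fun j _ => Ideal.mul_mem_left _ _ (ha j)⟩ = 0 := by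
    have e : (algebraMap P.toExtension.Ring B t') • x = 0 := (congrArg (· • x) ht'').trans ht'
    rw [algebraMap_smul] at e
    rw [← e, ← map_smul]
    congr 1
    ext
    show (∑ j, (t' * g j) * a j : P.Ring) = t' * ∑ j, g j * a j
    rw [Finset.mul_sum]
    exact Finset.sum_congr rfl fun j _ => mul_assoc t' (g j) (a j)
  rw [Algebra.Extension.Cotangent.mk_eq_zero_iff] at h3
  have h4 : MvPolynomial.aeval P.val (t' * g j) = 0 := by
    rw [← P.algebraMap_apply]
    exact hli _ h3 j
  rw [map_mul, show MvPolynomial.aeval P.val t' = (t : B) from (P.algebraMap_apply t').symm.trans ht''] at h4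
  exact ((hq.1.1.mem_or_mem (h4 ▸ q.zero_mem)).resolve_left t.2)

theorem coeff_mem_of_sum_mem_sq {A : Type u} [CommRing A] {c : ℕ} (a : Fin c → A)
    (b : Module.Basis (Fin c) (A ⧸ Ideal.span (Set.range a)) (Ideal.span (Set.range a)).Cotangent)
    (hb : ∀ i, b i = (Ideal.span (Set.range a)).toCotangent ⟨a i, Ideal.subset_span (Set.mem_range_self i)⟩)
    (g : Fin c → A) (hg : ∑ j, g j * a j ∈ Ideal.span (Set.range a) ^ 2) (j : Fin c) :
    g j ∈ Ideal.span (Set.range a) := by
  have hI : ∀ j, a j ∈ Ideal.span (Set.range a) := fun j => Ideal.subset_span (Set.mem_range_self j)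
  have h2 := ((Ideal.span (Set.range a)).toCotangent_eq_zero
    ⟨∑ j, g j * a j, Submodule.sum_mem _ fun j _ => Ideal.mul_mem_left _ _ (hI j)⟩).2 hg
  rw [show (⟨∑ j, g j * a j, _⟩ : Ideal.span (Set.range a)) =
    ∑ j, g j • (⟨a j, hI j⟩ : Ideal.span (Set.range a)) from by ext; simp, map_sum] at h2
  refine Ideal.Quotient.eq_zero_iff_mem.1
    (Fintype.linearIndependent_iff.1 b.linearIndependent (fun i => Ideal.Quotient.mk _ (g i)) ?_ j)
  refine Eq.trans (Finset.sum_congr rfl fun i _ => ?_) h2
  rw [hb, map_smul]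
  rfl

end FittLib
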