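import Mathlib
import Groth.Agent.FittLib.Prod
import Groth.Agent.FittLib.Proj

/-!
# The graph idempotent of an étale principal open, and a Fitting ideal factorisation
-/

universe u

open TensorProduct

set_option backward.isDefEq.respectTransparency false

namespace FittLib

variable (A C : Type u) [CommRing A] [CommRing C] [Algebra A C] (h : C)

/-- The map `C ⊗ C_h → C_h ⊗ C_h`. -/
noncomputable def graphMap : C ⊗[A] Localization.Away h →ₐ[A]
    Localization.Away h ⊗[A] Localization.Away h :=
  Algebra.TensorProduct.map (IsScalarTower.toAlgHom A C (Localization.Away h)) (AlgHom.id A _)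

variable {A C h}

lemma graphMap_loc (x : C ⊗[A] Localization.Away h) :
    TensorProduct.AlgebraTensorModule.cancelBaseChange A C C (Localization.Away h) (Localization.Away h)
      ((1 : Localization.Away h) ⊗ₜ[C] x) = graphMap A C h x := by
  induction x using TensorProduct.induction_on with
  | zero => simp
  | tmul c s => simp [graphMap, Algebra.smul_def]
  | add a b ha hb => rw [TensorProduct.tmul_add, map_add, map_add, ha, hb]

lemma exists_pow_mul_eq_zero {x : C ⊗[A] Localization.Away h} (hx : graphMap A C h x = 0) :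
    ∃ N : ℕ, (h ^ N) ⊗ₜ[A] (1 : Localization.Away h) * x = 0 := by
  rw [← graphMap_loc, LinearEquiv.map_eq_zero_iff] at hx
  obtain ⟨⟨_, N, rfl⟩, hN⟩ := (IsLocalizedModule.eq_zero_iff (Submonoid.powers h)
    (TensorProduct.mk C (Localization.Away h) (C ⊗[A] Localization.Away h) 1)).mp hx
  refine ⟨N, ?_⟩
  rw [← hN, Submonoid.smul_def, ← algebraMap_smul (C ⊗[A] Localization.Away h) (h ^ N) x,
    smul_eq_mul, Algebra.TensorProduct.algebraMap_apply, Algebra.algebraMap_self, RingHom.id_apply]

lemma exists_pow_mul_eq (y : Localization.Away h ⊗[A] Localization.Away h) :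
    ∃ (N : ℕ) (x : C ⊗[A] Localization.Away h),
      graphMap A C h x = graphMap A C h ((h ^ N) ⊗ₜ[A] 1) * y := by
  let E := TensorProduct.AlgebraTensorModule.cancelBaseChange A C C (Localization.Away h)
    (Localization.Away h)
  obtain ⟨⟨x, ⟨_, N, rfl⟩⟩, hx⟩ := IsLocalizedModule.surj (Submonoid.powers h)
    (TensorProduct.mk C (Localization.Away h) (C ⊗[A] Localization.Away h) 1) (E.symm y)
  refine ⟨N, x, ?_⟩
  have := congrArg E hx
  rw [Submonoid.smul_def, map_smul, LinearEquiv.apply_symm_apply, TensorProduct.mk_apply,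
    graphMap_loc] at this
  rw [← this, ← algebraMap_smul (Localization.Away h ⊗[A] Localization.Away h) (h ^ N) y, smul_eq_mul]
  simp [graphMap, Algebra.TensorProduct.algebraMap_apply]

variable (A C h)

/-- Multiplication `C ⊗ C_h → C_h`. -/
noncomputable def graphMul : C ⊗[A] Localization.Away h →ₐ[A] Localization.Away h :=
  (Algebra.TensorProduct.lmul' A).comp (graphMap A C h)

lemma graphMul_tmul (c : C) (s : Localization.Away h) :
    graphMul A C h (c ⊗ₜ s) = algebraMap C (Localization.Away h) c * s := by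
  simp [graphMul, graphMap]

/-- An idempotent cutting out the graph. -/
lemma exists_graph_idempotent [Algebra.Etale A (Localization.Away h)] :
    ∃ ε : C ⊗[A] Localization.Away h, ε * ε = ε ∧ graphMul A C h ε = 1 ∧
      ∀ x, graphMul A C h x = 0 → ε * x = 0 := by
  obtain ⟨v, hv⟩ : IsUnit (algebraMap C (Localization.Away h) h) := IsLocalization.Away.algebraMap_isUnit h
  let e := Algebra.FormallyUnramified.elem A (Localization.Away h)
  have he1 : Algebra.TensorProduct.lmul' A e = 1 := Algebra.FormallyUnramified.lmul_elem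
  have hmove : ∀ s : (Localization.Away h), ((1 : (Localization.Away h)) ⊗ₜ[A] s) * e = (s ⊗ₜ[A] (1 : (Localization.Away h))) * e :=
    Algebra.FormallyUnramified.one_tmul_mul_elem
  have hxe : ∀ y : (Localization.Away h) ⊗[A] (Localization.Away h), y * e = ((Algebra.TensorProduct.lmul' A y) ⊗ₜ[A] (1 : (Localization.Away h))) * e := by
    intro y
    induction y using TensorProduct.induction_on with
    | zero => simp
    | tmul s t =>
      calc s ⊗ₜ[A] t * e = (s ⊗ₜ[A] (1 : (Localization.Away h))) * (((1 : (Localization.Away h)) ⊗ₜ[A] t) * e) := by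
            rw [← mul_assoc, Algebra.TensorProduct.tmul_mul_tmul, mul_one, one_mul]
        _ = _ := by
            rw [hmove, ← mul_assoc, Algebra.TensorProduct.tmul_mul_tmul, mul_one]
            simp
    | add a b ha hb => rw [add_mul, ha, hb, ← add_mul, map_add, TensorProduct.add_tmul]
  have hμ : ∀ x, graphMul A C h x = Algebra.TensorProduct.lmul' A (graphMap A C h x) := fun _ => rfl
  let u : C ⊗[A] (Localization.Away h) := h ⊗ₜ[A] (↑v⁻¹ : (Localization.Away h))
  have hu1 : graphMul A C h u = 1 := by rw [graphMul_tmul, ← hv, Units.mul_inv]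
  have hpow : ∀ N : ℕ, (h ^ N) ⊗ₜ[A] (1 : (Localization.Away h)) = u ^ N * ((1 : C) ⊗ₜ[A] ((v : (Localization.Away h)) ^ N)) := fun N => by
    have h0 : (h ⊗ₜ[A] (↑v⁻¹ : (Localization.Away h))) * ((1 : C) ⊗ₜ[A] (v : (Localization.Away h))) =
        h ⊗ₜ[A] (1 : (Localization.Away h)) := by
      rw [Algebra.TensorProduct.tmul_mul_tmul, mul_one, Units.inv_mul]
    have h1 : ((1 : C) ⊗ₜ[A] (v : (Localization.Away h))) ^ N = (1 : C) ⊗ₜ[A] ((v : (Localization.Away h)) ^ N) :=
      (map_pow (Algebra.TensorProduct.includeRight : (Localization.Away h) →ₐ[A] C ⊗[A] (Localization.Away h)) _ N).symm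
    have h2 : (h ⊗ₜ[A] (1 : (Localization.Away h))) ^ N = (h ^ N) ⊗ₜ[A] (1 : (Localization.Away h)) :=
      (map_pow (Algebra.TensorProduct.includeLeftRingHom : C →+* C ⊗[A] (Localization.Away h)) h N).symm
    rw [← h2, ← h1, ← mul_pow, h0]
  have hkill : ∀ x, graphMap A C h x = 0 → ∃ N : ℕ, u ^ N * x = 0 := fun x hx => by
    obtain ⟨N, hN⟩ := exists_pow_mul_eq_zero hx
    refine ⟨N, ?_⟩
    have hunit : IsUnit ((1 : C) ⊗ₜ[A] ((v : (Localization.Away h)) ^ N)) :=
      (v.isUnit.pow N).map (Algebra.TensorProduct.includeRight : (Localization.Away h) →ₐ[A] C ⊗[A] (Localization.Away h))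
    rw [hpow, mul_comm (u ^ N), mul_assoc] at hN
    exact hunit.mul_right_eq_zero.mp hN
  obtain ⟨N, b, hb⟩ := exists_pow_mul_eq e
  let ε₀ : C ⊗[A] (Localization.Away h) := b * ((1 : C) ⊗ₜ[A] ((↑v⁻¹ : (Localization.Away h)) ^ N))
  have hε₀ : graphMap A C h ε₀ = e := by
    have h1 : graphMap A C h ((h ^ N) ⊗ₜ[A] 1) * graphMap A C h ((1 : C) ⊗ₜ[A] ((↑v⁻¹ : (Localization.Away h)) ^ N)) * e = e := by
      rw [hxe (_ * _), map_mul (Algebra.TensorProduct.lmul' A), ← hμ, ← hμ, graphMul_tmul,
        graphMul_tmul, map_one, mul_one, one_mul, map_pow, ← hv, ← mul_pow, Units.mul_inv, one_pow,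
        ← Algebra.TensorProduct.one_def, one_mul]
    rw [map_mul, hb, mul_right_comm, h1]
  have hee : e * e = e := by
    rw [hxe e, he1, ← Algebra.TensorProduct.one_def, one_mul]
  obtain ⟨M1, hM1⟩ := hkill (ε₀ * ε₀ - ε₀) (by rw [map_sub, map_mul, hε₀, hee, sub_self])
  obtain ⟨M2, hM2⟩ := hkill (ε₀ * (u - 1)) (by
    rw [map_mul, map_sub, map_one, hε₀, mul_comm, sub_mul, hxe (graphMap A C h u), ← hμ, hu1,
      ← Algebra.TensorProduct.one_def, one_mul, sub_self])
  let M := M1 + M2
  have k1 : u ^ M * ε₀ * ε₀ = u ^ M * ε₀ := by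
    linear_combination (u ^ M2) * hM1
  have k2 : u ^ M * ε₀ * u = u ^ M * ε₀ := by
    linear_combination (u ^ M1) * hM2
  have k3 : ∀ t : ℕ, u ^ M * ε₀ * u ^ t = u ^ M * ε₀ := by
    intro t
    induction t with
    | zero => simp
    | succ t ih => rw [pow_succ, ← mul_assoc, ih, k2]
  refine ⟨u ^ M * ε₀, ?_, ?_, fun x hx => ?_⟩
  · calc u ^ M * ε₀ * (u ^ M * ε₀) = (u ^ M * ε₀ * u ^ M) * ε₀ := by ring
      _ = _ := by rw [k3, k1]
  · rw [map_mul, map_pow, hu1, one_pow, one_mul, hμ, hε₀, he1]
  · obtain ⟨t, ht⟩ := hkill (ε₀ * x) (by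
      rw [map_mul, hε₀, mul_comm, hxe, ← hμ, hx, TensorProduct.zero_tmul, zero_mul])
    calc u ^ M * ε₀ * x = u ^ M * ε₀ * u ^ t * x := by rw [k3]
      _ = u ^ M * (u ^ t * (ε₀ * x)) := by ring
      _ = 0 := by rw [ht, mul_zero]

attribute [local instance] Algebra.TensorProduct.rightAlgebra

theorem fitting_eq_mul [Module.Finite A C] [Algebra.Etale A (Localization.Away h)] (J : Ideal C) :
    ∃ J' : Ideal (Localization.Away h),
      (Fitt.ideal A (C ⧸ J) 0).map (algebraMap A (Localization.Away h)) =
        J.map (algebraMap C (Localization.Away h)) * J' ∧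
      (Module.FinitePresentation A (C ⧸ J) → J'.FG) := by
  classical
  obtain ⟨ε, hidem, hε1, hεK⟩ := exists_graph_idempotent A C h
  let JB : Ideal (C ⊗[A] (Localization.Away h)) := J.map (Algebra.TensorProduct.includeLeftRingHom : C →+* C ⊗[A] (Localization.Away h))
  haveI : Module.Finite A (C ⧸ J) := inferInstance
  let q : C ⊗[A] (Localization.Away h) →ₗ[A] ((Localization.Away h) ⊗[A] (C ⧸ J)) :=
    TensorProduct.lift (LinearMap.mk₂ A (fun (c : C) (s : (Localization.Away h)) => s ⊗ₜ[A] Ideal.Quotient.mk J c)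
      (fun c c' s => by simp [TensorProduct.tmul_add])
      (fun a c s => by
        rw [show Ideal.Quotient.mk J (a • c) = a • Ideal.Quotient.mk J c from rfl,
          TensorProduct.tmul_smul])
      (fun c s s' => by simp [TensorProduct.add_tmul])
      (fun a c s => by simp [TensorProduct.smul_tmul']))
  have hqJ : ∀ x ∈ JB, q x = 0 := by
    intro x hx
    rw [show JB = Ideal.span (Algebra.TensorProduct.includeLeftRingHom '' (J : Set C)) from rfl] at hx
    suffices ∀ y, q (y * x) = 0 by simpa using this 1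
    induction hx using Submodule.span_induction with
    | mem z hz =>
      obtain ⟨c, hc, rfl⟩ := hz
      intro y
      induction y using TensorProduct.induction_on with
      | zero => simp
      | tmul c' s =>
        have : Ideal.Quotient.mk J (c' * c) = 0 :=
          Ideal.Quotient.eq_zero_iff_mem.mpr (J.mul_mem_left _ hc)
        rw [Algebra.TensorProduct.includeLeftRingHom_apply, Algebra.TensorProduct.tmul_mul_tmul,
          mul_one]
        simp only [q, TensorProduct.lift.tmul, LinearMap.mk₂_apply, this, TensorProduct.tmul_zero]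
      | add a b ha hb => rw [add_mul, map_add, ha, hb, add_zero]
    | zero => simp
    | add a b _ _ ha hb => intro y; rw [mul_add, map_add, ha, hb, add_zero]
    | smul r a _ ha => intro y; rw [smul_eq_mul, ← mul_assoc]; exact ha _
  let qbar : ((C ⊗[A] (Localization.Away h)) ⧸ JB) →ₗ[A] ((Localization.Away h) ⊗[A] (C ⧸ J)) := Submodule.liftQ (JB.restrictScalars A) q (fun x hx => hqJ x hx) ∘ₗ
    (Submodule.Quotient.restrictScalarsEquiv A JB).symm.toLinearMap
  have hqbar : ∀ x, qbar (Ideal.Quotient.mk JB x) = q x := fun x => rfl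
  let θ : ((Localization.Away h) ⊗[A] (C ⧸ J)) →ₗ[(Localization.Away h)] ((C ⊗[A] (Localization.Away h)) ⧸ JB) := TensorProduct.AlgebraTensorModule.lift
    { toFun := fun s => (Submodule.liftQ (J.restrictScalars A)
        (((Ideal.Quotient.mkₐ A JB).toLinearMap ∘ₗ (TensorProduct.mk A C (Localization.Away h)).flip s)) (fun c hc => by
          simp only [LinearMap.mem_ker, LinearMap.comp_apply, LinearMap.flip_apply,
            TensorProduct.mk_apply, AlgHom.toLinearMap_apply, Ideal.Quotient.mkₐ_eq_mk,
            Ideal.Quotient.eq_zero_iff_mem]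
          have : c ⊗ₜ[A] s = ((1 : C) ⊗ₜ[A] s) * Algebra.TensorProduct.includeLeftRingHom c := by
            simp
          rw [this]
          exact JB.mul_mem_left _ (Ideal.mem_map_of_mem _ hc))) ∘ₗ
        (Submodule.Quotient.restrictScalarsEquiv A J).symm.toLinearMap
      map_add' := fun s t => by
        ext x
        obtain ⟨c, rfl⟩ := Ideal.Quotient.mk_surjective x
        exact (congrArg (Ideal.Quotient.mk JB) (TensorProduct.tmul_add c s t)).trans (map_add _ _ _)
      map_smul' := fun r s => by
        ext x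
        obtain ⟨c, rfl⟩ := Ideal.Quotient.mk_surjective x
        change Ideal.Quotient.mk JB (c ⊗ₜ[A] (r * s)) = r • Ideal.Quotient.mk JB (c ⊗ₜ[A] s)
        change _ = Ideal.Quotient.mk JB (r • (c ⊗ₜ[A] s : C ⊗[A] (Localization.Away h)))
        congr 1
        rw [Algebra.smul_def]
        rw [show algebraMap (Localization.Away h) (C ⊗[A] (Localization.Away h)) r = (1 : C) ⊗ₜ[A] r from rfl,
          Algebra.TensorProduct.tmul_mul_tmul, one_mul] }
  have hθ : ∀ (s : (Localization.Away h)) (c : C), θ (s ⊗ₜ Ideal.Quotient.mk J c) = Ideal.Quotient.mk JB (c ⊗ₜ s) :=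
    fun s c => rfl
  have hθq : ∀ x, θ (q x) = Ideal.Quotient.mk JB x := by
    intro x
    induction x using TensorProduct.induction_on with
    | zero => simp
    | tmul c s => exact hθ s c
    | add a b ha hb => rw [map_add, map_add, ha, hb, map_add]
  have hqθ : ∀ t, qbar (θ t) = t := by
    intro t
    induction t using TensorProduct.induction_on with
    | zero => simp
    | tmul s y =>
      obtain ⟨c, rfl⟩ := Ideal.Quotient.mk_surjective y
      rw [hθ, hqbar]
      rfl
    | add a b ha hb => rw [map_add, map_add, ha, hb]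
  let eT : ((Localization.Away h) ⊗[A] (C ⧸ J)) ≃ₗ[(Localization.Away h)] ((C ⊗[A] (Localization.Away h)) ⧸ JB) := LinearEquiv.ofBijective θ ⟨fun a b hab => by rw [← hqθ a, hab, hqθ b],
    fun y => by obtain ⟨x, rfl⟩ := Ideal.Quotient.mk_surjective y; exact ⟨q x, hθq x⟩⟩
  haveI : Module.Finite (Localization.Away h) ((C ⊗[A] (Localization.Away h)) ⧸ JB) := Module.Finite.equiv eT
  have hμJ : JB ≤ Ideal.comap (graphMul A C h).toRingHom (J.map (algebraMap C (Localization.Away h))) := by
    refine Ideal.map_le_iff_le_comap.mpr fun c hc => ?_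
    simp only [Ideal.mem_comap, AlgHom.toRingHom_eq_coe, RingHom.coe_coe,
      Algebra.TensorProduct.includeLeftRingHom_apply, graphMul_tmul, mul_one]
    exact Ideal.mem_map_of_mem _ hc
  let μbar : ((C ⊗[A] (Localization.Away h)) ⧸ JB) →+* (Localization.Away h) ⧸ (J.map (algebraMap C (Localization.Away h))) := Ideal.Quotient.lift JB ((Ideal.Quotient.mk (J.map (algebraMap C (Localization.Away h)))).comp (graphMul A C h).toRingHom)
    (fun x hx => Ideal.Quotient.eq_zero_iff_mem.mpr (hμJ hx))
  have hLQ : ∀ (r : (Localization.Away h)), algebraMap (Localization.Away h) ((C ⊗[A] (Localization.Away h)) ⧸ JB) r = Ideal.Quotient.mk JB ((1 : C) ⊗ₜ[A] r) := fun r =>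
    IsScalarTower.algebraMap_apply (Localization.Away h) (C ⊗[A] (Localization.Away h)) ((C ⊗[A] (Localization.Away h)) ⧸ JB) r
  let Φ : ((C ⊗[A] (Localization.Away h)) ⧸ JB) →ₗ[(Localization.Away h)] ((Localization.Away h) ⧸ (J.map (algebraMap C (Localization.Away h)))) × ((C ⊗[A] (Localization.Away h)) ⧸ (JB ⊔ Ideal.span {ε})) :=
    { toFun := fun y => (μbar y, Ideal.Quotient.factor (le_sup_left : JB ≤ JB ⊔ Ideal.span {ε}) y)
      map_add' := fun a b => Prod.ext (map_add _ a b) (map_add _ a b)
      map_smul' := fun r y => by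
        obtain ⟨x, rfl⟩ := Ideal.Quotient.mk_surjective y
        refine Prod.ext ?_ ?_
        · change μbar (Ideal.Quotient.mk JB (r • x)) = Ideal.Quotient.mk (J.map (algebraMap C (Localization.Away h))) (r • graphMul A C h x)
          change Ideal.Quotient.mk (J.map (algebraMap C (Localization.Away h))) (graphMul A C h (r • x)) = _
          congr 1
          rw [Algebra.smul_def, map_mul, smul_eq_mul]
          congr 1
          rw [show algebraMap (Localization.Away h) (C ⊗[A] (Localization.Away h)) r = (1 : C) ⊗ₜ[A] r from rfl,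
            graphMul_tmul, map_one, one_mul]
        · rfl }
  have hΦinj : Function.Injective Φ := by
    rw [injective_iff_map_eq_zero]
    intro y hy
    obtain ⟨x, rfl⟩ := Ideal.Quotient.mk_surjective y
    have h1 : Ideal.Quotient.mk (J.map (algebraMap C (Localization.Away h))) (graphMul A C h x) = 0 := (Prod.ext_iff.mp hy).1
    have h2 : Ideal.Quotient.mk (JB ⊔ Ideal.span {ε}) x = 0 := (Prod.ext_iff.mp hy).2
    obtain ⟨j, hj, w, hw, hjw⟩ := Submodule.mem_sup.mp (Ideal.Quotient.eq_zero_iff_mem.mp h2)
    obtain ⟨z, rfl⟩ := Ideal.mem_span_singleton'.mp hw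
    have hεy : Ideal.Quotient.mk JB (ε * x) = Ideal.Quotient.mk JB x := by
      rw [Ideal.Quotient.eq, ← hjw,
        show ε * (j + z * ε) - (j + z * ε) = (ε - 1) * j by linear_combination z * hidem]
      exact JB.mul_mem_left _ hj
    have hxJ : graphMul A C h x ∈ (J.map (algebraMap C (Localization.Away h))) := Ideal.Quotient.eq_zero_iff_mem.mp h1
    obtain ⟨x', hx', hxx'⟩ : ∃ x' ∈ JB, graphMul A C h x' = graphMul A C h x := by
      have hmap : (J.map (algebraMap C (Localization.Away h))) = JB.map (graphMul A C h).toRingHom := by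
        simp only [JB, Ideal.map_map]
        congr 1
        ext c
        simp [graphMul_tmul]
      rw [hmap, Ideal.mem_map_iff_of_surjective _ (fun s => ⟨(1 : C) ⊗ₜ s, by simp [graphMul_tmul]⟩)] at hxJ
      exact hxJ
    have := hεK (x - x') (by rw [map_sub, hxx', sub_self])
    rw [← hεy, Ideal.Quotient.eq_zero_iff_mem, show ε * x = ε * x' by linear_combination this]
    exact JB.mul_mem_left _ hx'
  have hΦsurj : Function.Surjective Φ := by
    rintro ⟨a, b⟩
    obtain ⟨s, rfl⟩ := Ideal.Quotient.mk_surjective a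
    obtain ⟨y, rfl⟩ := Ideal.Quotient.mk_surjective b
    refine ⟨Ideal.Quotient.mk JB (ε * ((1 : C) ⊗ₜ[A] s) + (1 - ε) * y), Prod.ext ?_ ?_⟩
    · change Ideal.Quotient.mk (J.map (algebraMap C (Localization.Away h))) (graphMul A C h _) = Ideal.Quotient.mk (J.map (algebraMap C (Localization.Away h))) s
      congr 1
      simp [graphMul_tmul, hε1]
    · change Ideal.Quotient.mk _ _ = Ideal.Quotient.mk _ y
      rw [Ideal.Quotient.eq]
      refine Ideal.mem_sup_right (Ideal.mem_span_singleton'.mpr ⟨(1 : C) ⊗ₜ[A] s - y, ?_⟩)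
      ring
  let eΦ : ((C ⊗[A] (Localization.Away h)) ⧸ JB) ≃ₗ[(Localization.Away h)] ((Localization.Away h) ⧸ (J.map (algebraMap C (Localization.Away h)))) × ((C ⊗[A] (Localization.Away h)) ⧸ (JB ⊔ Ideal.span {ε})) := LinearEquiv.ofBijective Φ ⟨hΦinj, hΦsurj⟩
  haveI : Module.Finite (Localization.Away h) ((C ⊗[A] (Localization.Away h)) ⧸ (JB ⊔ Ideal.span {ε})) := Module.Finite.of_surjective
    ((LinearMap.snd (Localization.Away h) ((Localization.Away h) ⧸ (J.map (algebraMap C (Localization.Away h)))) ((C ⊗[A] (Localization.Away h)) ⧸ (JB ⊔ Ideal.span {ε}))) ∘ₗ Φ) (Prod.snd_surjective.comp hΦsurj)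
  refine ⟨Fitt.ideal (Localization.Away h) ((C ⊗[A] (Localization.Away h)) ⧸ (JB ⊔ Ideal.span {ε})) 0, ?_, fun hfp => ?_⟩
  · rw [← ideal_baseChange, ideal_congr (eT.trans eΦ), ideal_prod]
    simp only [zero_add, Finset.range_one, Finset.sum_singleton, Nat.sub_zero]
    congr 1
    rw [ideal_eq_minors_fin (fun _ : Fin 1 => (1 : (Localization.Away h) ⧸ (J.map (algebraMap C (Localization.Away h)))))]
    · apply le_antisymm
      · refine minors_le fun z e hz => ?_
        have := mem_rel.mp (hz 0)
        rw [Fin.sum_univ_one] at this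
        have h3 : Ideal.Quotient.mk (J.map (algebraMap C (Localization.Away h))) (z 0 0 * 1) = 0 := this
        rw [mul_one, Ideal.Quotient.eq_zero_iff_mem] at h3
        simpa [minor, Subsingleton.elim (e 0) 0] using h3
      · intro a ha
        have hz : ∀ j : Fin 1, (fun _ => a) ∈ rel (Localization.Away h) (fun _ : Fin 1 => (1 : (Localization.Away h) ⧸ (J.map (algebraMap C (Localization.Away h))))) := fun j => by
          rw [mem_rel, Fin.sum_univ_one]
          change Ideal.Quotient.mk (J.map (algebraMap C (Localization.Away h))) (a * 1) = 0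
          rw [mul_one]
          exact Ideal.Quotient.eq_zero_iff_mem.mpr ha
        simpa [minor] using minor_mem_minors hz id
    · rw [eq_top_iff]
      rintro t -
      obtain ⟨r, rfl⟩ := Ideal.Quotient.mk_surjective t
      have : Ideal.Quotient.mk (J.map (algebraMap C (Localization.Away h))) r = r • (1 : (Localization.Away h) ⧸ (J.map (algebraMap C (Localization.Away h)))) := by
        change _ = Ideal.Quotient.mk (J.map (algebraMap C (Localization.Away h))) (r * 1)
        rw [mul_one]
      rw [this]
      exact Submodule.smul_mem _ _ (Submodule.subset_span ⟨0, rfl⟩)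
  · haveI : Module.FinitePresentation (Localization.Away h) ((Localization.Away h) ⊗[A] (C ⧸ J)) := inferInstance
    haveI : Module.FinitePresentation (Localization.Away h) (((Localization.Away h) ⧸ (J.map (algebraMap C (Localization.Away h)))) × ((C ⊗[A] (Localization.Away h)) ⧸ (JB ⊔ Ideal.span {ε}))) :=
      Module.FinitePresentation.of_equiv (eT.trans eΦ)
    haveI : Module.Finite (Localization.Away h) ((Localization.Away h) ⧸ (J.map (algebraMap C (Localization.Away h)))) := inferInstance
    haveI : Module.FinitePresentation (Localization.Away h) ((C ⊗[A] (Localization.Away h)) ⧸ (JB ⊔ Ideal.span {ε})) := by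
      refine Module.finitePresentation_of_surjective (LinearMap.snd (Localization.Away h) ((Localization.Away h) ⧸ (J.map (algebraMap C (Localization.Away h)))) ((C ⊗[A] (Localization.Away h)) ⧸ (JB ⊔ Ideal.span {ε}))) Prod.snd_surjective ?_
      rw [LinearMap.ker_snd, ← Submodule.map_top]
      exact Module.Finite.fg_top.map _
    obtain ⟨n, x, hx⟩ := exists_generators (Localization.Away h) ((C ⊗[A] (Localization.Away h)) ⧸ (JB ⊔ Ideal.span {ε}))
    have hsurj : Function.Surjective (Fintype.linearCombination (Localization.Away h) x) := by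
      rw [← LinearMap.range_eq_top, Fintype.range_linearCombination, hx]
    obtain ⟨G, hG⟩ := Module.FinitePresentation.fg_ker _ hsurj
    let S : Set (Localization.Away h) := Set.range fun p : (Fin n → G) × (Fin n → Fin n) =>
      minor (fun j => (p.1 j : Fin n → (Localization.Away h))) p.2
    have : Fitt.ideal (Localization.Away h) ((C ⊗[A] (Localization.Away h)) ⧸ (JB ⊔ Ideal.span {ε})) 0 = Ideal.span S := by
      rw [ideal_eq_minors_fin x hx, Nat.sub_zero]
      apply le_antisymm
      · refine minors_le_of_span (G : Set (Fin n → (Localization.Away h))) (le_of_eq hG.symm) fun z e hz => ?_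
        exact Ideal.subset_span ⟨(fun j => ⟨z j, hz j⟩, e), rfl⟩
      · refine Ideal.span_le.mpr ?_
        rintro _ ⟨⟨g, e⟩, rfl⟩
        exact minor_mem_minors (fun j => hG.le (Submodule.subset_span (g j).2)) e
    rw [this]
    exact Submodule.fg_span (Set.finite_range _)

end FittLib
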