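import Mathlib
import Groth.Agent.FittLib.Matrix
import Groth.Agent.FittLib.Prod
import Groth.Agent.FittLib.Jacobian

/-!
# The Jacobian criterion for complete intersections in smooth algebras
-/

universe u

open TensorProduct

namespace FittLib

section free

variable {R : Type u} [CommRing R] (c : ℕ)

lemma ideal_free_eq_top {k : ℕ} (h : c ≤ k) : Fitt.ideal R (Fin c → R) k = ⊤ :=
  ideal_eq_top_of_generators (Pi.basisFun R (Fin c)) (Pi.basisFun R (Fin c)).span_eq (by simpa using h)

lemma ideal_free_eq_bot {k : ℕ} (h : k < c) : Fitt.ideal R (Fin c → R) k = ⊥ := by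
  rw [ideal_eq_minors_fin (Pi.basisFun R (Fin c)) (Pi.basisFun R (Fin c)).span_eq]
  refine le_bot_iff.mp (minors_le fun z e hz => ?_)
  have hz0 : z ⟨0, by omega⟩ = 0 := funext (Fintype.linearIndependent_iff.mp
    (Pi.basisFun R (Fin c)).linearIndependent _ (mem_rel.mp (hz _)))
  rw [Ideal.mem_bot]
  exact Matrix.det_eq_zero_of_column_eq_zero ⟨0, by omega⟩ fun i => by simp [hz0]

end free

variable {R T A : Type u} [CommRing R] [CommRing T] [CommRing A] [Algebra R T] [Algebra T A]
  [Algebra R A] [IsScalarTower R T A] {c : ℕ} (F : Fin c → T)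

/-- Coordinates map `A^c → I/I²`. -/
lemma exists_coordMap (hA : Function.Surjective (algebraMap T A))
    (hker : RingHom.ker (algebraMap T A) = Ideal.span (Set.range F)) :
    ∃ θ : (Fin c → A) →ₗ[T] (RingHom.ker (algebraMap T A)).Cotangent,
      Function.Surjective θ ∧ ∀ (b : Fin c → T), θ (fun j => algebraMap T A (b j)) =
        (RingHom.ker (algebraMap T A)).toCotangent
          ⟨∑ j, b j * F j, Ideal.sum_mem _ fun j _ =>
            Ideal.mul_mem_left _ _ (hker.ge (Ideal.subset_span ⟨j, rfl⟩))⟩ := by
  classical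
  let J := RingHom.ker (algebraMap T A)
  let red : (Fin c → T) →ₗ[T] (Fin c → A) :=
    LinearMap.pi fun j => (Algebra.linearMap T A) ∘ₗ LinearMap.proj j
  have hred : Function.Surjective red := fun v =>
    ⟨fun j => (hA (v j)).choose, funext fun j => (hA (v j)).choose_spec⟩
  let Φ : (Fin c → T) →ₗ[T] J.Cotangent := J.toCotangent ∘ₗ
    LinearMap.codRestrict (J.restrictScalars T) (Fintype.linearCombination T F) (fun b => by
      rw [Fintype.linearCombination_apply]
      exact Ideal.sum_mem _ fun j _ => Ideal.mul_mem_left _ _ (hker.ge (Ideal.subset_span ⟨j, rfl⟩)))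
  have hΦ : LinearMap.ker red ≤ LinearMap.ker Φ := by
    intro b hb
    rw [LinearMap.mem_ker]
    refine (Ideal.toCotangent_eq_zero _ _).mpr ?_
    change Fintype.linearCombination T F b ∈ J ^ 2
    rw [Fintype.linearCombination_apply, pow_two]
    refine Ideal.sum_mem _ fun j _ => Ideal.mul_mem_mul ?_ (hker.ge (Ideal.subset_span ⟨j, rfl⟩))
    exact RingHom.mem_ker.mpr (congrFun hb j)
  let θ := (LinearMap.ker red).liftQ Φ hΦ ∘ₗ (red.quotKerEquivOfSurjective hred).symm.toLinearMap
  have hθ : ∀ b, θ (red b) = Φ b := fun b => by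
    have : (red.quotKerEquivOfSurjective hred).symm (red b) = Submodule.Quotient.mk b := by
      rw [LinearEquiv.symm_apply_eq]; rfl
    simp [θ, this]
  refine ⟨θ, fun y => ?_, fun b => (hθ b).trans (congrArg J.toCotangent (Subtype.ext ?_))⟩
  · obtain ⟨⟨t, ht⟩, rfl⟩ := J.toCotangent_surjective y
    obtain ⟨b, hb⟩ := Ideal.mem_span_range_iff_exists_fun.mp (hker.le ht)
    refine ⟨red b, (hθ b).trans (congrArg J.toCotangent (Subtype.ext ?_))⟩
    change Fintype.linearCombination T F b = t
    rw [Fintype.linearCombination_apply, ← hb]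
    rfl
  · change Fintype.linearCombination T F b = _
    rw [Fintype.linearCombination_apply]
    rfl

variable (R A) in
lemma exists_basis_kaehler [Nontrivial A] (N : ℕ) [Algebra.IsStandardSmoothOfRelativeDimension N R T] :
    Nonempty (Module.Basis (Fin N) A (A ⊗[T] Ω[T⁄R])) := by
  haveI : Nontrivial T := (algebraMap T A).domain_nontrivial
  haveI : Algebra.IsStandardSmooth R T :=
    Algebra.IsStandardSmoothOfRelativeDimension.isStandardSmooth N
  exact ⟨(Module.finBasisOfFinrankEq T Ω[T⁄R] (Module.finrank_eq_of_rank_eq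
    (Algebra.IsStandardSmoothOfRelativeDimension.rank_kaehlerDifferential N))).baseChange A⟩

variable (R) in
/-- A complete intersection in a smooth algebra with unit Fitting ideal is smooth. -/
theorem smooth_of_ideal_eq_top (m : ℕ) [Algebra.IsStandardSmoothOfRelativeDimension (m + c) R T]
    (hA : Function.Surjective (algebraMap T A))
    (hker : RingHom.ker (algebraMap T A) = Ideal.span (Set.range F))
    (htop : Fitt.ideal A Ω[A⁄R] m = ⊤) : Algebra.Smooth R A := by
  classical
  haveI : Algebra.IsStandardSmooth R T :=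
    Algebra.IsStandardSmoothOfRelativeDimension.isStandardSmooth (m + c)
  haveI : Algebra.FinitePresentation R A :=
    Algebra.FinitePresentation.of_surjective (f := IsScalarTower.toAlgHom R T A) hA (by
      change (RingHom.ker (algebraMap T A)).FG
      rw [hker]
      exact Submodule.fg_span (Set.finite_range F))
  rcases subsingleton_or_nontrivial A with hsub | hnt
  · haveI : Algebra.FormallySmooth R A := (Algebra.FormallySmooth.iff_split_injection hA).mpr ⟨0, by
      have : ∀ y : (RingHom.ker (algebraMap T A)).Cotangent, y = 0 := fun y => by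
        obtain ⟨⟨t, ht⟩, rfl⟩ := Ideal.toCotangent_surjective _ y
        refine (Ideal.toCotangent_eq_zero _ _).mpr ?_
        have h1 : (1 : T) ∈ RingHom.ker (algebraMap T A) := RingHom.mem_ker.mpr (Subsingleton.elim _ _)
        rw [pow_two]
        simpa using Ideal.mul_mem_mul h1 ht
      exact LinearMap.ext fun y => (this _).trans (this _).symm⟩
    exact ⟨inferInstance, inferInstance⟩
  obtain ⟨b⟩ := exists_basis_kaehler R A (T := T) (m + c)
  let π := KaehlerDifferential.mapBaseChange R T A
  have hπ : Function.Surjective π := KaehlerDifferential.mapBaseChange_surjective R T A hA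
  have hex := KaehlerDifferential.exact_kerCotangentToTensor_mapBaseChange R T A hA
  let C := KaehlerDifferential.kerCotangentToTensor R T A
  let x : Fin (m + c) → Ω[A⁄R] := fun i => π (b i)
  have hx : Submodule.span A (Set.range x) = ⊤ := by
    rw [show x = π ∘ b from rfl, Set.range_comp, Submodule.span_image, b.span_eq, Submodule.map_top,
      LinearMap.range_eq_top.mpr hπ]
  obtain ⟨θ, hθs, hθ⟩ := exists_coordMap F hA hker
  let V : Fin c → Fin (m + c) → A := fun j i => b.repr ((1 : A) ⊗ₜ[T] KaehlerDifferential.D R T (F j)) i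
  have hCθ : ∀ v : Fin c → A, C (θ v) = ∑ i, (∑ j, v j * V j i) • b i := by
    intro v
    choose v' hv' using fun j => hA (v j)
    obtain rfl : (fun j => algebraMap T A (v' j)) = v := funext hv'
    rw [hθ, KaehlerDifferential.kerCotangentToTensor_toCotangent]
    simp only [map_sum, Derivation.leibniz, TensorProduct.tmul_sum, TensorProduct.tmul_add,
      TensorProduct.tmul_smul]
    have h0 : ∀ j, F j • ((1 : A) ⊗ₜ[T] KaehlerDifferential.D R T (v' j)) = 0 := fun j => by
      rw [TensorProduct.smul_tmul', Algebra.smul_def,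
        RingHom.mem_ker.mp (hker.ge (Ideal.subset_span ⟨j, rfl⟩)), zero_mul, TensorProduct.zero_tmul]
    simp only [h0, zero_add, add_zero, Finset.sum_smul]
    rw [Finset.sum_comm]
    refine Finset.sum_congr rfl fun j _ => ?_
    conv_lhs => rw [← b.sum_repr ((1 : A) ⊗ₜ[T] KaehlerDifferential.D R T (F j))]
    rw [Finset.smul_sum]
    refine Finset.sum_congr rfl fun i _ => ?_
    rw [mul_smul, algebraMap_smul]
  have hV : rel A x = Submodule.span A (Set.range V) := by
    ext v
    rw [mem_rel, Submodule.mem_span_range_iff_exists_fun]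
    constructor
    · intro hv
      have h0 : π (∑ i, v i • b i) = 0 := by simpa [map_sum, x] using hv
      obtain ⟨y, hy⟩ := (hex _).mp h0
      obtain ⟨w, rfl⟩ := hθs y
      refine ⟨w, funext fun i => ?_⟩
      have := congrArg b.equivFun ((hCθ w).symm.trans hy)
      rw [← b.equivFun_symm_apply, ← b.equivFun_symm_apply, LinearEquiv.apply_symm_apply,
        LinearEquiv.apply_symm_apply] at this
      simpa [Finset.sum_apply] using congrFun this i
    · rintro ⟨w, rfl⟩
      have h0 : π (C (θ w)) = 0 := (hex _).mpr ⟨_, rfl⟩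
      rw [hCθ] at h0
      simpa [map_sum, x, Finset.sum_apply] using h0
  rw [ideal_eq_minors_fin x hx, minors_eq_span_det x V hV] at htop
  let M : (Fin (m + c - m) → Fin (m + c)) → (Fin (m + c - m) → Fin c) →
      Matrix (Fin (m + c - m)) (Fin (m + c - m)) A := fun e s => Matrix.of fun a j => V (s j) (e a)
  let I : Ideal A :=
    { carrier := {r | ∃ l : A ⊗[T] Ω[T⁄R] →ₗ[T] (Fin c → A),
        ∀ v : Fin c → A, l (C (θ v)) = r • v}
      add_mem' := by
        rintro r r' ⟨l, hl⟩ ⟨l', hl'⟩
        exact ⟨l + l', fun v => by rw [LinearMap.add_apply, hl, hl', add_smul]⟩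
      zero_mem' := ⟨0, fun v => by simp⟩
      smul_mem' := by
        rintro a r ⟨l, hl⟩
        refine ⟨(DistribSMul.toLinearMap T (Fin c → A) a) ∘ₗ l, fun v => ?_⟩
        change a • l (C (θ v)) = _
        rw [hl, smul_smul, smul_eq_mul] }
  have hI : I = ⊤ := by
    rw [eq_top_iff, ← htop, Ideal.span_le]
    rintro _ ⟨s, e, rfl⟩
    by_cases hs : Function.Injective s
    swap
    · simp only [Function.Injective, not_forall] at hs
      obtain ⟨p, p', hp, hne⟩ := hs
      exact ⟨0, fun v => by rw [Matrix.det_zero_of_column_eq hne fun k => by simp [hp]]; simp⟩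
    let σ : Fin (m + c - m) ≃ Fin c := Equiv.ofBijective s
      ((Fintype.bijective_iff_injective_and_card s).mpr ⟨hs, by simp⟩)
    let lA : (Fin (m + c) → A) →ₗ[A] (Fin c → A) :=
      (LinearMap.funLeft A A σ.symm) ∘ₗ (Matrix.toLin' (M e s).adjugate) ∘ₗ (LinearMap.funLeft A A e)
    refine ⟨(lA ∘ₗ b.equivFun.toLinearMap).restrictScalars T, fun v => ?_⟩
    rw [LinearMap.restrictScalars_apply, hCθ]
    have h1 : b.equivFun (∑ i, (∑ j, v j * V j i) • b i) = fun i => ∑ j, v j * V j i := by
      rw [← b.equivFun_symm_apply, LinearEquiv.apply_symm_apply]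
    simp only [LinearMap.comp_apply, LinearEquiv.coe_toLinearMap, h1, lA]
    have h2 : (LinearMap.funLeft A A e) (fun i => ∑ j, v j * V j i) =
        Matrix.mulVec (M e s) (v ∘ s) := by
      funext a
      simp only [LinearMap.funLeft_apply, Matrix.mulVec, dotProduct, M, Matrix.of_apply,
        Function.comp_apply]
      rw [← Equiv.sum_comp σ]
      exact Finset.sum_congr rfl fun j _ => mul_comm _ _
    rw [h2, Matrix.toLin'_apply, Matrix.mulVec_mulVec, Matrix.adjugate_mul]
    funext j
    simp only [LinearMap.funLeft_apply, Matrix.smul_mulVec, Matrix.one_mulVec, Pi.smul_apply,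
      Function.comp_apply, smul_eq_mul]
    congr 2
    exact σ.apply_symm_apply j
  obtain ⟨l, hl⟩ := (Ideal.eq_top_iff_one I).mp hI
  haveI : Algebra.FormallySmooth R A := (Algebra.FormallySmooth.iff_split_injection hA).mpr
    ⟨θ ∘ₗ l, LinearMap.ext fun y => by
      obtain ⟨v, rfl⟩ := hθs y
      simp [C, hl v]⟩
  exact ⟨inferInstance, inferInstance⟩

variable (R) in
/-- Conversely, if the defining equations are independent modulo `I²`. -/
theorem ideal_eq_top_of_smooth (m : ℕ) [Algebra.IsStandardSmoothOfRelativeDimension (m + c) R T]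
    (hA : Function.Surjective (algebraMap T A))
    (hker : RingHom.ker (algebraMap T A) = Ideal.span (Set.range F))
    (hindep : ∀ b : Fin c → T, ∑ j, b j * F j ∈ RingHom.ker (algebraMap T A) ^ 2 →
      ∀ j, algebraMap T A (b j) = 0)
    [Algebra.FormallySmooth R A] : Fitt.ideal A Ω[A⁄R] m = ⊤ := by
  classical
  rcases subsingleton_or_nontrivial A with hsub | hnt
  · exact Subsingleton.elim _ _
  haveI : Algebra.IsStandardSmooth R T :=
    Algebra.IsStandardSmoothOfRelativeDimension.isStandardSmooth (m + c)
  obtain ⟨b⟩ := exists_basis_kaehler R A (T := T) (m + c)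
  let π := KaehlerDifferential.mapBaseChange R T A
  have hπ : Function.Surjective π := KaehlerDifferential.mapBaseChange_surjective R T A hA
  have hex := KaehlerDifferential.exact_kerCotangentToTensor_mapBaseChange R T A hA
  obtain ⟨θ, hθs, hθ⟩ := exists_coordMap F hA hker
  obtain ⟨l, hl⟩ := (Algebra.FormallySmooth.iff_split_injection hA).mp ‹_›
  have hθi : Function.Injective θ := by
    rw [injective_iff_map_eq_zero]
    intro v hv
    choose v' hv' using fun j => hA (v j)
    obtain rfl : (fun j => algebraMap T A (v' j)) = v := funext hv'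
    rw [hθ] at hv
    exact funext (hindep v' ((Ideal.toCotangent_eq_zero _ _).mp hv))
  let θe := LinearEquiv.ofBijective θ ⟨hθi, hθs⟩
  let p : A ⊗[T] Ω[T⁄R] →ₗ[A] (Fin c → A) :=
    (θe.symm.toLinearMap ∘ₗ l).extendScalarsOfSurjective hA
  let E : A ⊗[T] Ω[T⁄R] ≃ₗ[A] (Fin c → A) × Ω[A⁄R] := LinearEquiv.ofBijective (p.prod π) (by
    have hlC : ∀ y, l (KaehlerDifferential.kerCotangentToTensor R T A y) = y := LinearMap.congr_fun hl
    constructor
    · rw [injective_iff_map_eq_zero]
      intro y hy
      obtain ⟨h1, h2⟩ := Prod.ext_iff.mp hy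
      obtain ⟨t, rfl⟩ := (hex y).mp h2
      have : θe.symm (l (KaehlerDifferential.kerCotangentToTensor R T A t)) = 0 := h1
      rw [hlC, LinearEquiv.map_eq_zero_iff] at this
      rw [this, map_zero]
    · rintro ⟨v, ω⟩
      obtain ⟨y, rfl⟩ := hπ ω
      refine ⟨y + KaehlerDifferential.kerCotangentToTensor R T A (θ (v - p y)), Prod.ext ?_ ?_⟩
      · change p (y + _) = v
        rw [map_add]
        change p y + θe.symm (l _) = v
        rw [hlC]
        change p y + θe.symm (θe (v - p y)) = v
        rw [LinearEquiv.symm_apply_apply, add_sub_cancel]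
      · change π (y + _) = π y
        rw [map_add]
        have : π (KaehlerDifferential.kerCotangentToTensor R T A (θ (v - p y))) = 0 :=
          (hex _).mpr ⟨_, rfl⟩
        rw [this, add_zero])
  haveI : Module.Finite A Ω[A⁄R] := Module.Finite.of_surjective π hπ
  have h1 : Fitt.ideal A (A ⊗[T] Ω[T⁄R]) (m + c) = ⊤ :=
    ideal_eq_top_of_generators b b.span_eq (by simp)
  rw [ideal_congr E, ideal_prod, Ideal.sum_eq_sup] at h1
  rw [eq_top_iff, ← h1]
  refine Finset.sup_le fun k hk => ?_
  rcases lt_or_ge k c with hkc | hkc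
  · simp [ideal_free_eq_bot c hkc]
  · rw [ideal_free_eq_top c hkc, Ideal.top_mul]
    obtain ⟨n, x, hx⟩ := exists_generators A Ω[A⁄R]
    rw [ideal_eq_minors_fin x hx, ideal_eq_minors_fin x hx]
    rw [Finset.mem_range] at hk
    exact minors_antitone x (by omega)

end FittLib
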