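import Mathlib
import Groth.Agent.FittLib.OmegaFit
import Groth.Agent.FittLib.LciJacobian
import Groth.Agent.KoszulLib.Kinds
import Groth.Agent.KoszulLib.SchKer

/-!
# Jacobian loci of local complete intersection morphisms
-/

set_option autoImplicit false
set_option backward.isDefEq.respectTransparency false

universe u

open CategoryTheory CategoryTheory.Limits AlgebraicGeometry TopologicalSpace Opposite
open Groth.Agent Groth.Agent.QC

namespace FittLib

lemma indep_of_quasiRegular {B T : Type u} [CommRing B] [CommRing T] [Algebra B T] (h : B)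
    [IsLocalization.Away h T] {c : ℕ} (f : Fin c → B) (hq : CAlgX.IsQuasiRegular f) (b : Fin c → T)
    (hb : ∑ j, b j * algebraMap B T (f j) ∈
      ((Ideal.span (Set.range f)).map (algebraMap B T)) ^ 2) (j : Fin c) :
    b j ∈ (Ideal.span (Set.range f)).map (algebraMap B T) := by
  classical
  set I := Ideal.span (Set.range f)
  obtain ⟨⟨_, N, rfl⟩, hd⟩ :=
    IsLocalization.exist_integer_multiples_of_finite (Submonoid.powers h) b
  choose β hβ using hd
  rw [← Ideal.map_pow] at hb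
  have hb' : algebraMap B T (∑ j, β j * f j) ∈ (I ^ 2).map (algebraMap B T) := by
    have : algebraMap B T (∑ j, β j * f j) = algebraMap B T (h ^ N) * ∑ j, b j * algebraMap B T (f j) := by
      simp only [map_sum, map_mul, hβ, Finset.mul_sum, Algebra.smul_def, mul_assoc]
    rw [this]
    exact Ideal.mul_mem_left _ _ hb
  rw [IsLocalization.algebraMap_mem_map_algebraMap_iff (Submonoid.powers h)] at hb'
  obtain ⟨_, ⟨M, rfl⟩, hM⟩ := hb'
  let P : MvPolynomial (Fin c) B := ∑ j, MvPolynomial.C (h ^ M * β j) * MvPolynomial.X j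
  have hP : MvPolynomial.eval f P ∈ I ^ (1 + 1) := by
    simpa [P, Finset.mul_sum, mul_assoc] using hM
  have hhom : P.IsHomogeneous 1 := MvPolynomial.IsHomogeneous.sum Finset.univ _ 1 fun k _ => by
    have h01 := (MvPolynomial.isHomogeneous_C (Fin c) (h ^ M * β k)).mul
      (MvPolynomial.isHomogeneous_X B k)
    rwa [zero_add] at h01
  have hcoeff := hq 1 P hhom hP (Finsupp.single j 1)
  have hc : P.coeff (Finsupp.single j 1) = h ^ M * β j := by
    simp only [P, MvPolynomial.coeff_sum, MvPolynomial.coeff_C_mul, MvPolynomial.coeff_X,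
      Finsupp.single_left_inj one_ne_zero]
    rw [Finset.sum_eq_single j (fun k _ hk => by simp [hk]) (by simp)]
    simp
  rw [hc] at hcoeff
  have h1 := Ideal.mem_map_of_mem (algebraMap B T) hcoeff
  have hu : IsUnit (algebraMap B T h) := IsLocalization.Away.algebraMap_isUnit h
  rw [map_mul, map_pow, Ideal.unit_mul_mem_iff_mem _ (hu.pow M), hβ, Algebra.smul_def, map_pow,
    Ideal.unit_mul_mem_iff_mem _ (hu.pow N)] at h1
  exact h1

variable {Y X : Scheme.{u}} (f : Y ⟶ X) [LocallyOfFiniteType f] [QuasiSeparated f]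

theorem smooth_iff_not_mem_support_of_lci (m : ℕ) (y : Y)
    (hlci : ∃ (U : Y.Opens) (P : Scheme.{u}) (i : (U : Scheme.{u}) ⟶ P) (π : P ⟶ X) (c : ℕ),
      y ∈ U ∧ RegImm.IsRegularImmersionOfCodim RegImm.Kind.koszul c i ∧
        SmoothOfRelativeDimension (m + c) π ∧ i ≫ π = U.ι ≫ f) :
    (∃ V : Y.Opens, y ∈ V ∧ Smooth (V.ι ≫ f)) ↔
      y ∉ (Fitt.sheafIdeal (Omega.sheaf f) m).support := by
  classical
  obtain ⟨U, P, i, π, c, hyU, ⟨himm, hreg⟩, hπ, hfac⟩ := hlci
  have key : ∀ O' : Y.Opens, y ∈ O' → ∃ (R A : Type u) (_ : CommRing R) (_ : CommRing A)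
      (_ : Algebra R A) (v : Spec (CommRingCat.of R) ⟶ X) (_ : IsOpenImmersion v)
      (j : Spec (CommRingCat.of A) ⟶ Y) (_ : IsOpenImmersion j),
      Spec.map (CommRingCat.ofHom (algebraMap R A)) ≫ v = j ≫ f ∧ y ∈ j ''ᵁ ⊤ ∧ j ''ᵁ ⊤ ≤ O' ∧
      (Algebra.Smooth R A ↔ Fitt.ideal A Ω[A⁄R] m = ⊤) := by
    intro O' hyO'
    obtain ⟨O'', hO''o, hO''⟩ :=
      i.isEmbedding.isInducing.isOpen_iff.mp (U.ι ⁻¹ᵁ O').isOpen
    have hzO'' : i ⟨y, hyU⟩ ∈ O'' := by
      have : (⟨y, hyU⟩ : (U : Scheme.{u})) ∈ i ⁻¹' O'' := by rw [hO'']; exact hyO'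
      exact this
    obtain ⟨O, hzO, hc, rs, hlen, hseq, hker⟩ := hreg ⟨y, hyU⟩
    obtain ⟨U₀, hU₀, W, hW, hzW, hWU, hstd⟩ :=
      hπ.exists_isStandardSmoothOfRelativeDimension (i ⟨y, hyU⟩)
    obtain ⟨g₀, hg₀le, hg₀⟩ := hW.exists_basicOpen_le
      (⟨i ⟨y, hyU⟩, hzO''⟩ : (⟨O'', hO''o⟩ : P.Opens)) hzW
    obtain ⟨h, g, hhg, hzD⟩ :=
      exists_basicOpen_le_affine_inter O.2 (hW.basicOpen g₀) (i ⟨y, hyU⟩) ⟨hzO, hg₀⟩
    let D : P.affineOpens := ⟨P.basicOpen h, O.2.basicOpen h⟩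
    have hDO : D.1 ≤ O.1 := P.basicOpen_le h
    have hDg₀ : D.1 ≤ P.basicOpen g₀ := hhg.trans_le (P.basicOpen_le g)
    have hDU : D.1 ≤ π ⁻¹ᵁ U₀ := (hDg₀.trans (P.basicOpen_le g₀)).trans hWU
    obtain ⟨hcD, hkerD⟩ := KoszulLib.ker_app_of_le i O hc D hDO
    let W' : (U : Scheme.{u}).Opens := i ⁻¹ᵁ D.1
    have hW' : IsAffineOpen W' := KoszulLib.isAffineOpen_preimage i hcD
    have hW'U : W' ≤ (i ≫ π) ⁻¹ᵁ U₀ := i.preimage_mono hDU
    letI : Algebra Γ(X, U₀) Γ(P, D.1) := (π.appLE U₀ D.1 hDU).hom.toAlgebra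
    letI : Algebra Γ(X, U₀) Γ((U : Scheme.{u}), W') := ((i ≫ π).appLE U₀ W' hW'U).hom.toAlgebra
    letI : Algebra Γ(P, D.1) Γ((U : Scheme.{u}), W') := (i.app D.1).hom.toAlgebra
    haveI : IsScalarTower Γ(X, U₀) Γ(P, D.1) Γ((U : Scheme.{u}), W') :=
      IsScalarTower.of_algebraMap_eq fun r => by
        change (i ≫ π).appLE U₀ W' hW'U r = (π.appLE U₀ D.1 hDU ≫ i.app D.1) r
        rw [Scheme.Hom.app_eq_appLE, Scheme.Hom.appLE_comp_appLE]
    letI : Algebra Γ(P, O.1) Γ(P, D.1) := (resO P hDO).toAlgebra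
    haveI : IsLocalization.Away h Γ(P, D.1) := O.2.isLocalization_basicOpen h
    haveI : Algebra.IsStandardSmoothOfRelativeDimension (m + c) Γ(X, U₀) Γ(P, D.1) := by
      have e0 : RingHom.IsStandardSmoothOfRelativeDimension (m + c) (π.appLE U₀ D.1 hDU).hom := by
        have hW2 : RingHom.IsStandardSmoothOfRelativeDimension (m + c)
            (π.appLE U₀ (P.basicOpen g₀) ((P.basicOpen_le g₀).trans hWU)).hom := by
          rw [← π.appLE_map hWU (homOfLE (P.basicOpen_le g₀)).op, CommRingCat.hom_comp]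
          haveI := hW.isLocalization_basicOpen g₀
          exact (RingHom.isStandardSmoothOfRelativeDimension_stableUnderCompositionWithLocalizationAway
            (m + c)).right Γ(P, P.basicOpen g₀) g₀ _ hstd
        rw [← π.appLE_map ((P.basicOpen_le g₀).trans hWU) (homOfLE hDg₀).op, CommRingCat.hom_comp]
        letI : Algebra Γ(P, P.basicOpen g₀) Γ(P, D.1) := (resO P hDg₀).toAlgebra
        haveI : IsLocalization.Away g Γ(P, D.1) :=
          (hW.basicOpen g₀).isLocalization_of_eq_basicOpen g (homOfLE hDg₀) hhg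
        exact (RingHom.isStandardSmoothOfRelativeDimension_stableUnderCompositionWithLocalizationAway
            (m + c)).right Γ(P, D.1) g _ hW2
      exact e0
    subst hlen
    let F : Fin rs.length → Γ(P, D.1) := fun j => algebraMap Γ(P, O.1) Γ(P, D.1) (rs.get j)
    have hI : Ideal.ofList rs = Ideal.span (Set.range rs.get) := by
      rw [Ideal.ofList, Set.range_list_get]
    have hA : Function.Surjective (algebraMap Γ(P, D.1) Γ((U : Scheme.{u}), W')) :=
      KoszulLib.app_surjective i hcD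
    have hkerA : RingHom.ker (algebraMap Γ(P, D.1) Γ((U : Scheme.{u}), W')) =
        (Ideal.span (Set.range rs.get)).map (algebraMap Γ(P, O.1) Γ(P, D.1)) := by
      rw [← hI, ← hker]
      exact hkerD
    have hF : RingHom.ker (algebraMap Γ(P, D.1) Γ((U : Scheme.{u}), W')) =
        Ideal.span (Set.range F) := by
      rw [hkerA, Ideal.map_span, ← Set.range_comp]
      rfl
    have hindep : ∀ b : Fin rs.length → Γ(P, D.1),
        ∑ j, b j * F j ∈ RingHom.ker (algebraMap Γ(P, D.1) Γ((U : Scheme.{u}), W')) ^ 2 →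
        ∀ j, algebraMap Γ(P, D.1) Γ((U : Scheme.{u}), W') (b j) = 0 := by
      intro b hb j
      rw [← RingHom.mem_ker, hkerA]
      rw [hkerA] at hb
      exact indep_of_quasiRegular h rs.get
        (KoszulLib.quasi_seq_of_h1 (KoszulLib.h1_seq_of_koszul hseq)) b hb j
    refine ⟨Γ(X, U₀), Γ((U : Scheme.{u}), W'), inferInstance, inferInstance, inferInstance,
      hU₀.fromSpec, inferInstance, hW'.fromSpec ≫ U.ι, inferInstance, ?_, ?_, ?_, ?_⟩
    · rw [Category.assoc, ← hfac]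
      exact IsAffineOpen.SpecMap_appLE_fromSpec (i ≫ π) hU₀ hW' hW'U
    · obtain ⟨s, hs⟩ : (⟨y, hyU⟩ : (U : Scheme.{u})) ∈ Set.range hW'.fromSpec := by
        rw [hW'.range_fromSpec]
        exact hzD
      exact ⟨s, trivial, (congrArg U.ι hs : _)⟩
    · rintro _ ⟨s, -, rfl⟩
      have hs : hW'.fromSpec s ∈ W' := hW'.range_fromSpec.subset ⟨s, rfl⟩
      have h2 : hW'.fromSpec s ∈ i ⁻¹' O'' := hg₀le (hDg₀ hs)
      rw [hO''] at h2
      exact h2
    · exact ⟨fun _ => ideal_eq_top_of_smooth Γ(X, U₀) F m hA hF hindep,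
        smooth_of_ideal_eq_top Γ(X, U₀) F m hA hF⟩
  have hfit : ∀ {R A : Type u} [CommRing R] [CommRing A] [Algebra R A]
      (v : Spec (CommRingCat.of R) ⟶ X) [IsOpenImmersion v]
      (j : Spec (CommRingCat.of A) ⟶ Y) [IsOpenImmersion j]
      (_ : Spec.map (CommRingCat.ofHom (algebraMap R A)) ≫ v = j ≫ f),
      Fitt.ideal A Ω[A⁄R] m = ⊤ ↔
        ∀ z ∈ j ''ᵁ ⊤, z ∉ (Fitt.sheafIdeal (Omega.sheaf f) m).support := by
    intro R A _ _ _ v _ j _ hsq
    obtain ⟨ψ, T, -, hψ, hT, hlin, -⟩ := exists_sectEquiv_omega (R := R) (A := A) f v j hsq (j ''ᵁ ⊤) rfl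
    have hWaff : IsAffineOpen (j ''ᵁ ⊤) := (isAffineOpen_top _).image_of_isOpenImmersion j
    haveI : Module.Finite Γ(Y, j ''ᵁ ⊤) Γ(Omega.sheaf f, j ''ᵁ ⊤) :=
      finite_sections hWaff (hM := isQCoh_omega f) (isFT_omega f)
    have h2 := ideal_map_of_semilinear ψ hψ T hT hlin m
    have h3 : Fitt.ideal A Ω[A⁄R] m = ⊤ ↔
        Fitt.ideal Γ(Y, j ''ᵁ ⊤) Γ(Omega.sheaf f, j ''ᵁ ⊤) m = ⊤ := by
      rw [h2]
      exact ⟨fun h => by rw [← Ideal.comap_map_of_bijective ψ hψ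
        (I := Fitt.ideal Γ(Y, j ''ᵁ ⊤) Γ(Omega.sheaf f, j ''ᵁ ⊤) m), h, Ideal.comap_top],
        fun h => by rw [h, Ideal.map_top]⟩
    rw [h3]
    constructor
    · intro h z hz
      rw [mem_support_iff _ ⟨_, hWaff⟩ hz, sheafIdeal_ideal (isQCoh_omega f) (isFT_omega f), h]
      exact fun hle => (hWaff.primeIdealOf ⟨z, hz⟩).isPrime.ne_top (top_le_iff.mp hle)
    · intro h
      by_contra hne
      obtain ⟨p, hp, hle⟩ := Ideal.exists_le_maximal _ hne
      let q : PrimeSpectrum Γ(Y, j ''ᵁ ⊤) := ⟨p, hp.isPrime⟩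
      have hz : hWaff.fromSpec q ∈ j ''ᵁ ⊤ := hWaff.range_fromSpec.subset ⟨q, rfl⟩
      refine h _ hz ?_
      rw [mem_support_iff _ ⟨_, hWaff⟩ hz, sheafIdeal_ideal (isQCoh_omega f) (isFT_omega f)]
      have hq : hWaff.primeIdealOf ⟨_, hz⟩ = q :=
        hWaff.fromSpec.isOpenEmbedding.injective (hWaff.fromSpec_primeIdealOf ⟨_, hz⟩)
      rw [hq]
      exact hle
  constructor
  · rintro ⟨V, hyV, hV⟩
    obtain ⟨R, A, _, _, _, v, hv, j, hj, hsq, hyj, hjV, hiff⟩ := key V hyV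
    have h1 : Smooth (j ≫ f) := by
      have hr : Set.range j ⊆ Set.range V.ι := by
        rw [Scheme.Opens.range_ι]
        rintro _ ⟨s, rfl⟩
        exact hjV ⟨s, trivial, rfl⟩
      rw [← IsOpenImmersion.lift_fac V.ι j hr, Category.assoc]
      haveI : IsOpenImmersion (IsOpenImmersion.lift V.ι j hr ≫ V.ι) := by
        rw [IsOpenImmersion.lift_fac]; exact hj
      haveI : IsOpenImmersion (IsOpenImmersion.lift V.ι j hr) := IsOpenImmersion.of_comp _ V.ι
      exact MorphismProperty.comp_mem _ _ _ inferInstance hV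
    rw [← hsq] at h1
    have h2 : Smooth (Spec.map (CommRingCat.ofHom (algebraMap R A))) :=
      MorphismProperty.of_postcomp (W := @Smooth) (W' := @IsOpenImmersion) _ v hv h1
    rw [HasRingHomProperty.Spec_iff (P := @Smooth), CommRingCat.hom_ofHom,
      RingHom.smooth_algebraMap] at h2
    exact (hfit v j hsq).mp (hiff.mp h2) y hyj
  · intro hy
    obtain ⟨R, A, _, _, _, v, hv, j, hj, hsq, hyj, hjV, hiff⟩ := key
      ⟨_, (Fitt.sheafIdeal (Omega.sheaf f) m).support.isClosed.isOpen_compl⟩ hy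
    haveI : Algebra.Smooth R A := hiff.mpr ((hfit v j hsq).mpr fun z hz => hjV hz)
    have h2 : Smooth (Spec.map (CommRingCat.ofHom (algebraMap R A))) := by
      rw [HasRingHomProperty.Spec_iff (P := @Smooth), CommRingCat.hom_ofHom,
        RingHom.smooth_algebraMap]
      infer_instance
    have h3 : Smooth (j ≫ f) := hsq ▸ MorphismProperty.comp_mem _ _ _ h2 inferInstance
    refine ⟨j ''ᵁ ⊤, hyj, ?_⟩
    have hr : Set.range (j ''ᵁ ⊤).ι ⊆ Set.range j := by
      rw [Scheme.Opens.range_ι]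
      rintro _ ⟨s, -, rfl⟩
      exact ⟨s, rfl⟩
    rw [← IsOpenImmersion.lift_fac j (j ''ᵁ ⊤).ι hr, Category.assoc]
    haveI : IsOpenImmersion (IsOpenImmersion.lift j (j ''ᵁ ⊤).ι hr ≫ j) := by
      rw [IsOpenImmersion.lift_fac]; infer_instance
    haveI : IsOpenImmersion (IsOpenImmersion.lift j (j ''ᵁ ⊤).ι hr) := IsOpenImmersion.of_comp _ j
    exact MorphismProperty.comp_mem _ _ _ inferInstance h3

end FittLib
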